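import Groth.Agent.RegImmKindLib.Mor
import Groth.Prelude.Def_Mor2
import Mathlib

/-!
# Regular closed immersions near a point
-/

set_option autoImplicit false
set_option linter.style.haveILetI false
set_option backward.isDefEq.respectTransparency.types false

noncomputable section

universe u

open CategoryTheory AlgebraicGeometry RingTheory.Sequence

namespace RegImmKindLib

theorem ker_app_restrict {X Y : Scheme.{u}} (f : Y ⟶ X) (V : X.Opens) (U' : V.toScheme.Opens) :
    RingHom.ker ((f ∣_ V).app U').hom = RingHom.ker (f.app (V.ι ''ᵁ U')).hom := by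
  ext a
  simp only [RingHom.mem_ker]
  rw [morphismRestrict_app]
  exact map_eq_zero_iff _ (ConcreteCategory.bijective_of_isIso
    (Y.presheaf.map (eqToHom (image_morphismRestrict_preimage f V U')).op)).1

theorem isRegularClosedImmersion_near_iff {X Y : Scheme.{u}} (f : Y ⟶ X) [IsClosedImmersion f] (y : Y) :
    (∃ V : X.Opens, f y ∈ V ∧ Mor2.IsRegularClosedImmersion (f ∣_ V)) ↔ RegImm.IsRegularImmersionAt .regular f y := by
  constructor
  · rintro ⟨V, hyV, -, h⟩
    obtain ⟨U', hU', hyU', rs, hrs, hker⟩ := h ⟨y, hyV⟩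
    have hU : IsAffineOpen (V.ι ''ᵁ U') := hU'.image_of_isOpenImmersion V.ι
    refine ⟨⟨V.ι ''ᵁ U', hU⟩, ?_, MorphismProperty.of_isPullback (isPullback_morphismRestrict f _).flip inferInstance,
      rs, hrs, ?_⟩
    · exact ⟨(f ∣_ V) ⟨y, hyV⟩, hyU', congrArg (fun φ : (f ⁻¹ᵁ V).toScheme ⟶ X => φ ⟨y, hyV⟩) (morphismRestrict_ι f V)⟩
    · rw [Scheme.Hom.ker_apply] at hker
      exact (ker_app_restrict f V U').symm.trans hker
  · rintro ⟨⟨U, hU⟩, hyU, hcl, rs, hrs, hker⟩
    refine ⟨U, hyU, hcl, fun z => ⟨⊤, @isAffineOpen_top _ hU, trivial, ?_⟩⟩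
    rw [Scheme.Hom.ker_apply]
    have key : ∀ U₁ : X.Opens, U₁ = U → ∃ rs : List Γ(X, U₁), IsRegular Γ(X, U₁) rs ∧
        RingHom.ker (f.app U₁).hom = Ideal.ofList rs := by
      rintro _ rfl
      exact ⟨rs, hrs, hker⟩
    obtain ⟨rs', hrs', hker'⟩ := key (U.ι ''ᵁ ⊤) U.ι_image_top
    exact ⟨rs', hrs', (ker_app_restrict f U ⊤).trans hker'⟩

theorem regular_near_stalk_iff {X Y : Scheme.{u}} [IsLocallyNoetherian X] (f : Y ⟶ X) [IsClosedImmersion f] (y : Y) :
    (∃ V : X.Opens, f y ∈ V ∧ Mor2.IsRegularClosedImmersion (f ∣_ V)) ↔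
      ∃ rs : List (X.presheaf.stalk (f y)), IsRegular (X.presheaf.stalk (f y)) rs ∧
        RingHom.ker (f.stalkMap y).hom = Ideal.ofList rs :=
  (isRegularClosedImmersion_near_iff f y).trans (isRegularImmersionAt_iff f .regular y)

end RegImmKindLib
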