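import Groth.Agent.TorRegLib.Basic
import Groth.Agent.TorDimLib.FlatVanish
import Mathlib

/-!
# Vanishing of `Tor` against quotients by locally regular ideals
-/

set_option autoImplicit false
set_option linter.style.haveILetI false
set_option backward.isDefEq.respectTransparency.types false

noncomputable section

universe u

open CategoryTheory CategoryTheory.Limits MonoidalCategory RingTheory.Sequence TensorProduct TorDimLib

namespace RegImmKindLib

variable {A : Type u} [CommRing A] {N : ModuleCat.{u} A} (P : ProjectiveResolution N)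

theorem exactAtSucc_iff_isZero (M : ModuleCat.{u} A) (q : ℕ) :
    ExactAtSucc M P q ↔ IsZero ((TorRegLib.G P M).homology (q + 1)) := by
  rw [← (TorRegLib.G P M).exactAt_iff_isZero_homology,
    (TorRegLib.G P M).exactAt_iff' (q + 2) (q + 1) q (by simp [ChainComplex.prev]) (by simp),
    ShortComplex.ShortExact.moduleCat_exact_iff_function_exact]
  rfl

theorem exactAtSucc_congr {M M' : Type u} [AddCommGroup M] [Module A M] [AddCommGroup M'] [Module A M']
    (e : M ≃ₗ[A] M') {q : ℕ} (h : ExactAtSucc M P q) : ExactAtSucc M' P q := by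
  refine (Function.Exact.iff_of_ladder_linearEquiv
    (e₁ := e.rTensor (P.complex.X (q + 2))) (e₂ := e.rTensor (P.complex.X (q + 1))) (e₃ := e.rTensor (P.complex.X q))
    ?_ ?_).2 h <;>
  · refine TensorProduct.ext' fun m x => ?_
    rfl

/-- Dividing by a sequence regular on a module and on its tensor product with `N` preserves acyclicity. -/
theorem exactAtSucc_quot : ∀ (fs : List A) (M : Type u) [AddCommGroup M] [Module A M],
    IsWeaklyRegular M fs → IsWeaklyRegular (M ⊗[A] N) fs → (∀ q, ExactAtSucc M P q) →
      ∀ q, ExactAtSucc (M ⧸ (Ideal.ofList fs • ⊤ : Submodule A M)) P q := by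
  intro fs
  induction fs with
  | nil =>
    intro M _ _ _ _ h q
    exact exactAtSucc_congr P (Submodule.quotEquivOfEqBot _ (by simp)).symm (h q)
  | cons r rs ih =>
    intro M _ _ h1 h2 h q
    rw [isWeaklyRegular_cons_iff] at h1 h2
    have hQ : ∀ q, ExactAtSucc (QuotSMulTop r M) P q := by
      intro q
      let g : ModuleCat.of A M ⟶ ModuleCat.of A (QuotSMulTop r M) := ModuleCat.ofHom (Submodule.mkQ _)
      have w : (r • 𝟙 (ModuleCat.of A M)) ≫ g = 0 := by
        refine ModuleCat.hom_ext (LinearMap.ext fun m => ?_)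
        exact (Submodule.Quotient.mk_eq_zero _).2 (Submodule.smul_mem_pointwise_smul m r _ trivial)
      have hS : (ShortComplex.mk (r • 𝟙 (ModuleCat.of A M)) g w).ShortExact := by
        refine ShortComplex.ShortExact.mk' ?_ ?_ ?_
        · rw [ShortComplex.moduleCat_exact_iff]
          intro m hm
          obtain ⟨m', -, hm'⟩ := (Submodule.Quotient.mk_eq_zero _).1 hm
          exact ⟨m', hm'⟩
        · rw [ModuleCat.mono_iff_injective]
          exact h1.1
        · rw [ModuleCat.epi_iff_surjective]
          exact Submodule.mkQ_surjective _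
      refine (exactAtSucc_iff_isZero P (ModuleCat.of A (QuotSMulTop r M)) q).2
        (TorRegLib.vanish_up (P := P) hS (fun i hi => ?_) h2.1 (q + 1) (Nat.le_add_left 1 q))
      obtain ⟨j, rfl⟩ : ∃ j, i = j + 1 := ⟨i - 1, by omega⟩
      exact (exactAtSucc_iff_isZero P (ModuleCat.of A M) j).1 (h j)
    exact exactAtSucc_congr P (Submodule.quotOfListConsSMulTopEquivQuotSMulTopInner M r rs).symm
      (ih (QuotSMulTop r M) h1.2 ((QuotSMulTop.quotSMulTopTensorEquivQuotSMulTop r N M).symm.isWeaklyRegular_congr rs |>.1 h2.2) hQ q)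

/-- Exactness of a tensored resolution is local. -/
theorem exactAtSucc_of_maximal (M : Type u) [AddCommGroup M] [Module A M] (q : ℕ)
    (h : ∀ (m : Ideal A) [m.IsMaximal], ExactAtSucc (Localization.AtPrime m ⊗[A] M) P q) : ExactAtSucc M P q := by
  let f : ∀ (m : Ideal A) [m.IsMaximal], M →ₗ[A] Localization.AtPrime m ⊗[A] M := fun m _ =>
    TensorProduct.mk A (Localization.AtPrime m) M 1
  haveI : ∀ (m : Ideal A) [m.IsMaximal], IsLocalizedModule m.primeCompl (f m) := fun m _ =>
    (isLocalizedModule_iff_isBaseChange m.primeCompl (Localization.AtPrime m) _).2 (TensorProduct.isBaseChange A M _)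
  refine exact_of_isLocalized_maximal
    (fun (m : Ideal A) _ => (Localization.AtPrime m ⊗[A] M) ⊗[A] P.complex.X (q + 2))
    (fun m _ => AlgebraTensorModule.rTensor A (P.complex.X (q + 2)) (f m))
    (fun (m : Ideal A) _ => (Localization.AtPrime m ⊗[A] M) ⊗[A] P.complex.X (q + 1))
    (fun m _ => AlgebraTensorModule.rTensor A (P.complex.X (q + 1)) (f m))
    (fun (m : Ideal A) _ => (Localization.AtPrime m ⊗[A] M) ⊗[A] P.complex.X q)
    (fun m _ => AlgebraTensorModule.rTensor A (P.complex.X q) (f m)) _ _ fun m _ => ?_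
  have e1 := IsLocalizedModule.map_lTensor (R := A) A m.primeCompl (P.complex.d (q + 2) (q + 1)).hom (f m)
  have e2 := IsLocalizedModule.map_lTensor (R := A) A m.primeCompl (P.complex.d (q + 1) q).hom (f m)
  rw [Function.Exact]
  intro z
  exact ((LinearMap.congr_fun e2 z).congr_left : _ ↔ _).trans (((h m) z).trans
    (exists_congr fun w => (LinearMap.congr_fun e1 w).symm.congr_left))

/-- `Tor` against a quotient by a locally regular ideal vanishes. -/
theorem exactAtSucc_quotient_of_local (I : Ideal A)
    (h : ∀ (m : Ideal A) [m.IsMaximal], ∃ fs : List A,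
      IsWeaklyRegular (Localization.AtPrime m) fs ∧ IsWeaklyRegular (Localization.AtPrime m ⊗[A] N) fs ∧
      (Ideal.ofList fs).map (algebraMap A (Localization.AtPrime m)) = I.map (algebraMap A (Localization.AtPrime m)))
    (q : ℕ) : ExactAtSucc (A ⧸ I) P q := by
  refine exactAtSucc_of_maximal P _ q fun m _ => ?_
  obtain ⟨fs, h1, h2, h3⟩ := h m
  let L := Localization.AtPrime m
  haveI : Module.Flat A L := IsLocalization.flat L m.primeCompl
  refine exactAtSucc_congr P ?_ (exactAtSucc_quot P fs L h1 h2 (fun q => exactAtSucc_of_flat_left P q) q)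
  have e3 : (Ideal.ofList fs • ⊤ : Submodule A L) = (I.map (algebraMap A L)).restrictScalars A := by
    rw [← h3, Ideal.smul_top_eq_map]
  exact (Submodule.quotEquivOfEq _ _ e3).trans ((Submodule.Quotient.restrictScalarsEquiv A (I.map (algebraMap A L))).trans
    ((Algebra.TensorProduct.quotIdealMapEquivTensorQuot L I).toLinearEquiv.restrictScalars A))

end RegImmKindLib
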