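import Groth.Agent.RegImmKindLib.CM
import Groth.Agent.RegImmKindLib.TorVanish
import Groth.Agent.LCILocusLib.Scheme
import Mathlib

/-!
# Intersections of expected codimension in Cohen-Macaulay schemes
-/

set_option autoImplicit false
set_option linter.style.haveILetI false
set_option backward.isDefEq.respectTransparency.types false

noncomputable section

universe u

open CategoryTheory CategoryTheory.Limits AlgebraicGeometry RingTheory.Sequence IsLocalRing CommAlgDim TensorProduct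

namespace RegImmKindLib

/-- Height bounds at all primes over an ideal bound the dimension of the quotient in a Cohen-Macaulay ring. -/
theorem dim_quotient_add_le {R : Type u} [CommRing R] [IsLocalRing R] [IsNoetherianRing R] (hR : IsCM R)
    (K : Ideal R) (hK : K ≠ ⊤) (c : ℕ) (h : ∀ (Q : Ideal R) [Q.IsPrime], K ≤ Q → (c : ℕ∞) ≤ Q.height) :
    ringKrullDim (R ⧸ K) + c ≤ ringKrullDim R := by
  obtain ⟨n, hn⟩ := exists_ringKrullDim_eq (R := R)
  haveI : Nonempty (PrimeSpectrum.zeroLocus (R := R) K) := by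
    rwa [Set.nonempty_coe_sort, Set.nonempty_iff_ne_empty, ne_eq, PrimeSpectrum.zeroLocus_empty_iff_eq_top]
  rw [ringKrullDim_quotient, Order.krullDim_eq_iSup_length, hn,
    show ((c : ℕ) : WithBot ℕ∞) = (((c : ℕ∞) : WithBot ℕ∞)) from rfl,
    show ((n : ℕ) : WithBot ℕ∞) = (((n : ℕ∞) : WithBot ℕ∞)) from rfl, ← WithBot.coe_add, WithBot.coe_le_coe,
    ENat.iSup_add, iSup_le_iff]
  intro l
  let Q := l.head.1
  have hQ : K ≤ Q.asIdeal := l.head.2
  let l' : LTSeries (PrimeSpectrum.zeroLocus (R := R) (Q.asIdeal : Set R)) :=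
    { length := l.length
      toFun := fun i => ⟨(l i).1, (show Q ≤ (l i).1 from Subtype.coe_le_coe.2 (l.head_le i))⟩
      step := fun i => l.step i }
  have h1 : (l.length : WithBot ℕ∞) ≤ ringKrullDim (R ⧸ Q.asIdeal) := by
    rw [ringKrullDim_quotient]
    exact Order.LTSeries.length_le_krullDim l'
  have h2 := CatLib.ringKrullDim_quotient_add_height hR Q.asIdeal
  have h3 : ((c : ℕ∞) : WithBot ℕ∞) ≤ (Q.asIdeal.height : WithBot ℕ∞) := WithBot.coe_le_coe.2 (h Q.asIdeal hQ)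
  have h4 : ((l.length : ℕ∞) : WithBot ℕ∞) + ((c : ℕ∞) : WithBot ℕ∞) ≤ ((n : ℕ∞) : WithBot ℕ∞) := by
    rw [← show ringKrullDim R = ((n : ℕ∞) : WithBot ℕ∞) from hn, ← h2]
    exact add_le_add h1 h3
  rwa [← WithBot.coe_add, WithBot.coe_le_coe] at h4

variable {X Z : Scheme.{u}} (i : Z ⟶ X) {U : X.Opens} (hU : IsAffineOpen U)
include hU

theorem fromSpec_mem (p : PrimeSpectrum Γ(X, U)) : hU.fromSpec p ∈ U := by
  rw [← SetLike.mem_coe, ← hU.range_fromSpec]
  exact ⟨p, rfl⟩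

theorem primeIdealOf_fromSpec (p : PrimeSpectrum Γ(X, U)) :
    hU.primeIdealOf ⟨hU.fromSpec p, fromSpec_mem hU p⟩ = p :=
  hU.fromSpec.isOpenEmbedding.injective (hU.fromSpec_primeIdealOf ⟨hU.fromSpec p, fromSpec_mem hU p⟩)

/-- A prime over the kernel of a closed immersion comes from a point of the subscheme. -/
theorem exists_point_of_ker_le [IsClosedImmersion i] (p : PrimeSpectrum Γ(X, U))
    (hle : RingHom.ker (i.app U).hom ≤ p.asIdeal) : ∃ z : Z, i z = hU.fromSpec p := by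
  have hV : IsAffineOpen (i ⁻¹ᵁ U) := hU.preimage i
  have hs : Function.Surjective (i.app U) := i.app_surjective U hU
  have hp' : (p.asIdeal.map (i.app U).hom).IsPrime := Ideal.map_isPrime_of_surjective hs hle
  refine ⟨hV.fromSpec ⟨p.asIdeal.map (i.app U).hom, hp'⟩, ?_⟩
  have h1 := congrArg (fun φ : Spec Γ(Z, i ⁻¹ᵁ U) ⟶ X => φ ⟨p.asIdeal.map (i.app U).hom, hp'⟩)
    (IsAffineOpen.SpecMap_appLE_fromSpec i hU hV (le_refl (i ⁻¹ᵁ U)))
  change hU.fromSpec (Spec.map (i.appLE U (i ⁻¹ᵁ U) le_rfl) ⟨p.asIdeal.map (i.app U).hom, hp'⟩) =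
    i (hV.fromSpec ⟨p.asIdeal.map (i.app U).hom, hp'⟩) at h1
  refine Eq.trans h1.symm (congrArg hU.fromSpec (PrimeSpectrum.ext ?_))
  show (p.asIdeal.map (i.app U).hom).comap (i.appLE U (i ⁻¹ᵁ U) le_rfl).hom = p.asIdeal
  rw [← Scheme.Hom.app_eq_appLE, Ideal.comap_map_of_surjective _ hs]
  exact sup_eq_left.2 hle

/-- The local ring at a prime of an affine open is that of the corresponding point. -/
theorem cm_atPrime [IsLocallyNoetherian X] (p : PrimeSpectrum Γ(X, U)) :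
    (LocCoh.IsCohenMacaulayLocalRing (X.presheaf.stalk (hU.fromSpec p)) → IsCM (Localization.AtPrime p.asIdeal)) ∧
      ringKrullDim (X.presheaf.stalk (hU.fromSpec p)) = (p.asIdeal.height : WithBot ℕ∞) := by
  letI := X.presheaf.algebra_section_stalk (⟨hU.fromSpec p, fromSpec_mem hU p⟩ : U)
  haveI : IsLocalization.AtPrime (X.presheaf.stalk (hU.fromSpec p)) p.asIdeal := by
    have h := hU.isLocalization_stalk ⟨hU.fromSpec p, fromSpec_mem hU p⟩
    rwa [primeIdealOf_fromSpec hU p] at h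
  haveI : IsNoetherianRing Γ(X, U) := IsLocallyNoetherian.component_noetherian ⟨U, hU⟩
  haveI : IsNoetherianRing (Localization.AtPrime p.asIdeal) :=
    IsLocalization.isNoetherianRing p.asIdeal.primeCompl _ inferInstance
  exact ⟨fun h => CatLib.isCM_of_ringEquiv
    (IsLocalization.algEquiv p.asIdeal.primeCompl (X.presheaf.stalk (hU.fromSpec p)) _).toRingEquiv
    ((CMFlatLib.isCohenMacaulayLocalRing_iff_isCM _).1 h),
    IsLocalization.AtPrime.ringKrullDim_eq_height p.asIdeal _⟩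

/-- Local equations of a regular immersion of given codimension. -/
theorem exists_seq_atPrime [IsClosedImmersion i] [IsLocallyNoetherian X] (c : ℕ)
    (h : RegImm.IsRegularImmersionOfCodim RegImm.Kind.regular c i) (p : PrimeSpectrum Γ(X, U))
    (hle : RingHom.ker (i.app U).hom ≤ p.asIdeal) :
    ∃ fs : List Γ(X, U), fs.length = c ∧ (∀ f ∈ fs, f ∈ RingHom.ker (i.app U).hom) ∧
      IsRegular (Localization.AtPrime p.asIdeal) (fs.map (algebraMap Γ(X, U) (Localization.AtPrime p.asIdeal))) ∧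
      (Ideal.ofList fs).map (algebraMap Γ(X, U) (Localization.AtPrime p.asIdeal)) =
        (RingHom.ker (i.app U).hom).map (algebraMap Γ(X, U) (Localization.AtPrime p.asIdeal)) := by
  obtain ⟨z, hz⟩ := exists_point_of_ker_le i hU p hle
  have hzU : i z ∈ U := hz ▸ fromSpec_mem hU p
  have hpz : hU.primeIdealOf ⟨i z, hzU⟩ = p := by
    refine hU.fromSpec.isOpenEmbedding.injective ?_
    rw [hU.fromSpec_primeIdealOf]
    exact hz
  -- the stalk
  obtain ⟨⟨U', hU'⟩, hzU', hcl, rs₀, hlen, hrs₀, hker₀⟩ := h.2 z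
  obtain ⟨hV', hs'⟩ := (KRLib.isClosedImmersion_restrict_iff i hU').1 hcl
  haveI : IsNoetherianRing Γ(X, U') := IsLocallyNoetherian.component_noetherian ⟨U', hU'⟩
  haveI : IsNoetherianRing Γ(X, U) := IsLocallyNoetherian.component_noetherian ⟨U, hU⟩
  let S := X.presheaf.stalk (i z)
  obtain ⟨rs, hrlen, hrs, hker⟩ : ∃ rs : List S, rs.length = c ∧ IsRegular S rs ∧
      RingHom.ker (i.stalkMap z).hom = Ideal.ofList rs := by
    letI := X.presheaf.algebra_section_stalk (⟨i z, hzU'⟩ : U')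
    haveI : IsLocalization.AtPrime S (hU'.primeIdealOf ⟨i z, hzU'⟩).asIdeal := hU'.isLocalization_stalk ⟨i z, hzU'⟩
    obtain ⟨hk1, hk2⟩ := ker_stalkMap i hU' hV' hs' z hzU'
    refine ⟨rs₀.map (algebraMap Γ(X, U') S), by rw [List.length_map]; exact hlen,
      isRegular_of_seq .regular (hU'.primeIdealOf ⟨i z, hzU'⟩).asIdeal rs₀ (fun r hr => hk2 ?_) hrs₀ _, ?_⟩
    · rw [hker₀]; exact Ideal.subset_span hr
    · rw [hk1, hker₀, Ideal.map_ofList]
  letI := X.presheaf.algebra_section_stalk (⟨i z, hzU⟩ : U)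
  haveI : IsLocalization.AtPrime S p.asIdeal := hpz ▸ hU.isLocalization_stalk ⟨i z, hzU⟩
  have hI : Ideal.ofList rs = (RingHom.ker (i.app U).hom).map (algebraMap Γ(X, U) S) :=
    hker.symm.trans (ker_stalkMap i hU (hU.preimage i) (i.app_surjective U hU) z hzU).1
  let L := Localization.AtPrime p.asIdeal
  haveI : IsNoetherianRing L := IsLocalization.isNoetherianRing p.asIdeal.primeCompl _ inferInstance
  let e : S ≃ₐ[Γ(X, U)] L := IsLocalization.algEquiv p.asIdeal.primeCompl _ _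
  -- clear denominators
  let I := RingHom.ker (i.app U).hom
  let rL := rs.map e.toRingEquiv
  have hrL : IsRegular L rL := TransLib.isRegular_of_ringEquiv e.toRingEquiv hrs
  have hIL : Ideal.ofList rL = I.map (algebraMap Γ(X, U) L) := by
    rw [show rL = rs.map e.toRingEquiv.toRingHom from rfl, ← Ideal.map_ofList, hI, Ideal.map_map]
    exact congrArg (fun φ : Γ(X, U) →+* L => I.map φ) (RingHom.ext e.commutes)
  have hex : ∀ j : Fin rL.length, ∃ b ∈ I, ∃ u : L, IsUnit u ∧ algebraMap Γ(X, U) L b = u * rL.get j := fun j => by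
    obtain ⟨⟨x, s⟩, hx⟩ := (IsLocalization.mem_map_algebraMap_iff p.asIdeal.primeCompl L).1
      (hIL ▸ Ideal.subset_span (List.get_mem rL j) : rL.get j ∈ I.map (algebraMap Γ(X, U) L))
    exact ⟨x.1, x.2, algebraMap Γ(X, U) L s, IsLocalization.map_units L s, by rw [← hx, mul_comm]⟩
  choose b hbI u hu hbu using hex
  let y : Fin rL.length → L := fun j => algebraMap Γ(X, U) L (b j)
  have hspan : Ideal.span (Set.range y) = Ideal.span (Set.range rL.get) := by
    refine le_antisymm (Ideal.span_le.2 ?_) (Ideal.span_le.2 ?_)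
    · rintro _ ⟨j, rfl⟩
      show y j ∈ Ideal.span (Set.range rL.get)
      rw [show y j = u j * rL.get j from hbu j]
      exact Ideal.mul_mem_left _ _ (Ideal.subset_span ⟨j, rfl⟩)
    · rintro _ ⟨j, rfl⟩
      rw [SetLike.mem_coe, ← Ideal.unit_mul_mem_iff_mem _ (hu j), ← hbu]
      exact Ideal.subset_span ⟨j, rfl⟩
  refine ⟨List.ofFn b, by rw [List.length_ofFn, List.length_map]; exact hrlen, ?_, ?_, ?_⟩
  · intro f hf
    obtain ⟨j, rfl⟩ := List.mem_ofFn.1 hf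
    exact hbI j
  · rw [List.map_ofFn]
    exact CILib.isRegular_of_span_eq _ L rL.get y (by rw [List.ofFn_get]; exact hrL) hspan
  · rw [← hIL, Ideal.map_ofList, List.map_ofFn]
    show Ideal.ofList (List.ofFn y) = _
    rw [CILib.ofList_ofFn, hspan, ← CILib.ofList_ofFn, List.ofFn_get]

omit hU
variable {Y : Scheme.{u}}

/-- The ideal of an intersection. -/
theorem ker_inter (iY : Y ⟶ X) (iZ : Z ⟶ X) [IsClosedImmersion iY] [IsClosedImmersion iZ] {U : X.Opens}
    (hU : IsAffineOpen U) :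
    RingHom.ker ((pullback.fst iY iZ ≫ iY).app U).hom =
      RingHom.ker (iY.app U).hom ⊔ RingHom.ker (iZ.app U).hom := by
  let gX := pullback.fst iY iZ
  let q' := pullback.snd iY iZ
  obtain ⟨-, hp⟩ := LCILocusLib.pullback_chart (IsPullback.of_hasPullback iY iZ) hU (hU.preimage iZ) le_rfl
    (hU.preimage iY) le_rfl
  let V := gX ⁻¹ᵁ (iY ⁻¹ᵁ U) ⊓ q' ⁻¹ᵁ (iZ ⁻¹ᵁ U)
  have hV : V = (gX ≫ iY) ⁻¹ᵁ U := by
    show gX ⁻¹ᵁ (iY ⁻¹ᵁ U) ⊓ q' ⁻¹ᵁ (iZ ⁻¹ᵁ U) = _
    rw [← Scheme.Hom.comp_preimage, ← Scheme.Hom.comp_preimage, ← pullback.condition, inf_idem]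
  have key : ∀ (V' : (pullback iY iZ).Opens) (e : V' ≤ (gX ≫ iY) ⁻¹ᵁ U), V' = (gX ≫ iY) ⁻¹ᵁ U →
      RingHom.ker ((gX ≫ iY).app U).hom = RingHom.ker ((gX ≫ iY).appLE U V' e).hom := by
    intro V' e hV'
    subst hV'
    rw [Scheme.Hom.app_eq_appLE]
  rw [key V hV.le hV, ← Scheme.Hom.appLE_comp_appLE gX iY U (iY ⁻¹ᵁ U) V le_rfl inf_le_left]
  letI : Algebra Γ(X, U) Γ(Y, iY ⁻¹ᵁ U) := (iY.appLE U (iY ⁻¹ᵁ U) le_rfl).hom.toAlgebra
  letI : Algebra Γ(X, U) Γ(Z, iZ ⁻¹ᵁ U) := (iZ.appLE U (iZ ⁻¹ᵁ U) le_rfl).hom.toAlgebra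
  letI : Algebra Γ(Y, iY ⁻¹ᵁ U) Γ(pullback iY iZ, V) := (gX.appLE (iY ⁻¹ᵁ U) V inf_le_left).hom.toAlgebra
  letI : Algebra Γ(Z, iZ ⁻¹ᵁ U) Γ(pullback iY iZ, V) := (q'.appLE (iZ ⁻¹ᵁ U) V inf_le_right).hom.toAlgebra
  letI : Algebra Γ(X, U) Γ(pullback iY iZ, V) :=
    (iY.appLE U (iY ⁻¹ᵁ U) le_rfl ≫ gX.appLE (iY ⁻¹ᵁ U) V inf_le_left).hom.toAlgebra
  haveI : IsScalarTower Γ(X, U) Γ(Y, iY ⁻¹ᵁ U) Γ(pullback iY iZ, V) := IsScalarTower.of_algebraMap_eq fun _ => rfl
  haveI : IsScalarTower Γ(X, U) Γ(Z, iZ ⁻¹ᵁ U) Γ(pullback iY iZ, V) :=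
    IsScalarTower.of_algebraMap_eq' (congrArg CommRingCat.Hom.hom hp.w)
  haveI : Algebra.IsPushout Γ(X, U) Γ(Y, iY ⁻¹ᵁ U) Γ(Z, iZ ⁻¹ᵁ U) Γ(pullback iY iZ, V) :=
    CommRingCat.isPushout_iff_isPushout.mp hp
  have hsY : Function.Surjective (algebraMap Γ(X, U) Γ(Y, iY ⁻¹ᵁ U)) := by
    show Function.Surjective (iY.appLE U (iY ⁻¹ᵁ U) le_rfl)
    rw [← Scheme.Hom.app_eq_appLE]
    exact iY.app_surjective U hU
  have hsZ : Function.Surjective (algebraMap Γ(X, U) Γ(Z, iZ ⁻¹ᵁ U)) := by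
    show Function.Surjective (iZ.appLE U (iZ ⁻¹ᵁ U) le_rfl)
    rw [← Scheme.Hom.app_eq_appLE]
    exact iZ.app_surjective U hU
  show RingHom.ker (algebraMap Γ(X, U) Γ(pullback iY iZ, V)) = _
  rw [IsScalarTower.algebraMap_eq Γ(X, U) Γ(Z, iZ ⁻¹ᵁ U) Γ(pullback iY iZ, V), ← RingHom.comap_ker,
    (KRLib.isPushout_surjective_ker (A := Γ(X, U)) (B := Γ(Y, iY ⁻¹ᵁ U)) (C := Γ(Z, iZ ⁻¹ᵁ U))
      (P := Γ(pullback iY iZ, V)) hsY).2, Ideal.comap_map_of_surjective _ hsZ, ← RingHom.ker_eq_comap_bot,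
    Scheme.Hom.app_eq_appLE, Scheme.Hom.app_eq_appLE]
  rfl

variable [IsLocallyNoetherian X] (hCM : ∀ x : X, LocCoh.IsCohenMacaulayLocalRing (X.presheaf.stalk x))
  (iY : Y ⟶ X) (iZ : Z ⟶ X) [IsClosedImmersion iY] [IsClosedImmersion iZ] {a b : ℕ}
  (hY : RegImm.IsRegularImmersionOfCodim RegImm.Kind.regular a iY)
  (hZ : RegImm.IsRegularImmersionOfCodim RegImm.Kind.regular b iZ)
  (hcodim : ∀ w : ↥(pullback iY iZ), ((a + b : ℕ) : WithBot ℕ∞) ≤
    ringKrullDim (X.presheaf.stalk ((pullback.fst iY iZ ≫ iY).base w)))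

include hCM hY hZ hcodim

/-- Transversality at a prime on both subschemes. -/
theorem transversal_atPrime {U : X.Opens} (hU : IsAffineOpen U) (p : PrimeSpectrum Γ(X, U))
    (hIp : RingHom.ker (iY.app U).hom ⊔ RingHom.ker (iZ.app U).hom ≤ p.asIdeal) :
    ∃ fs gs : List Γ(X, U), fs.length = a ∧ gs.length = b ∧
      IsRegular (Localization.AtPrime p.asIdeal) ((fs ++ gs).map (algebraMap Γ(X, U) (Localization.AtPrime p.asIdeal))) ∧
      (Ideal.ofList fs).map (algebraMap Γ(X, U) (Localization.AtPrime p.asIdeal)) =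
        (RingHom.ker (iY.app U).hom).map (algebraMap Γ(X, U) (Localization.AtPrime p.asIdeal)) ∧
      (Ideal.ofList gs).map (algebraMap Γ(X, U) (Localization.AtPrime p.asIdeal)) =
        (RingHom.ker (iZ.app U).hom).map (algebraMap Γ(X, U) (Localization.AtPrime p.asIdeal)) := by
  obtain ⟨fs, hfl, hfI, -, hf⟩ := exists_seq_atPrime iY hU a hY p (le_sup_left.trans hIp)
  obtain ⟨gs, hgl, hgJ, -, hg⟩ := exists_seq_atPrime iZ hU b hZ p (le_sup_right.trans hIp)
  refine ⟨fs, gs, hfl, hgl, ?_, hf, hg⟩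
  let A := Γ(X, U)
  haveI : IsNoetherianRing A := IsLocallyNoetherian.component_noetherian ⟨U, hU⟩
  let L := Localization.AtPrime p.asIdeal
  haveI : IsNoetherianRing L := IsLocalization.isNoetherianRing p.asIdeal.primeCompl _ inferInstance
  have hcm : IsCM L := (cm_atPrime hU p).1 (hCM _)
  let K := Ideal.ofList ((fs ++ gs).map (algebraMap A L))
  have hKeq : K = (RingHom.ker (iY.app U).hom ⊔ RingHom.ker (iZ.app U).hom).map (algebraMap A L) := by
    show Ideal.ofList ((fs ++ gs).map (algebraMap A L)) = _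
    rw [← Ideal.map_ofList, Ideal.ofList_append, Ideal.map_sup, hf, hg, ← Ideal.map_sup]
  have hm : ∀ r ∈ (fs ++ gs).map (algebraMap A L), r ∈ maximalIdeal L := fun r hr => by
    obtain ⟨x, hx, rfl⟩ := List.mem_map.1 hr
    refine (IsLocalization.AtPrime.to_map_mem_maximal_iff L p.asIdeal x).2 ?_
    rcases List.mem_append.1 hx with hx | hx
    · exact hIp (Ideal.mem_sup_left (hfI x hx))
    · exact hIp (Ideal.mem_sup_right (hgJ x hx))
  refine isRegular_of_dim hcm hm ?_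
  rw [List.length_map, List.length_append, hfl, hgl]
  refine dim_quotient_add_le hcm K (ne_top_of_le_ne_top (maximalIdeal.isMaximal L).ne_top
    (Ideal.span_le.2 hm)) (a + b) fun Q hQ hKQ => ?_
  let Q₀ : PrimeSpectrum A := ⟨Q.comap (algebraMap A L), inferInstance⟩
  have hQ₀ : RingHom.ker ((pullback.fst iY iZ ≫ iY).app U).hom ≤ Q₀.asIdeal := by
    rw [ker_inter iY iZ hU]
    exact Ideal.le_comap_map.trans (Ideal.comap_mono (hKeq ▸ hKQ))
  obtain ⟨w, hw⟩ := exists_point_of_ker_le (pullback.fst iY iZ ≫ iY) hU Q₀ hQ₀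
  have h1 : ((a + b : ℕ) : WithBot ℕ∞) ≤ (Q₀.asIdeal.height : WithBot ℕ∞) := by
    rw [← (cm_atPrime hU Q₀).2, ← hw]
    exact hcodim w
  rw [show Q₀.asIdeal.height = Q.height from IsLocalization.height_under p.asIdeal.primeCompl Q] at h1
  exact WithBot.coe_le_coe.1 h1

theorem regularImmersion_inter :
    RegImm.IsRegularImmersionOfCodim RegImm.Kind.regular (a + b) (pullback.fst iY iZ ≫ iY) := by
  refine ⟨inferInstance, fun w => ?_⟩
  let i := pullback.fst iY iZ ≫ iY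
  obtain ⟨U, hU, hxU, -⟩ := exists_isAffineOpen_mem_and_subset (x := i w) (U := ⊤) trivial
  haveI : IsNoetherianRing Γ(X, U) := IsLocallyNoetherian.component_noetherian ⟨U, hU⟩
  let p := hU.primeIdealOf ⟨i w, hxU⟩
  have hk := (ker_stalkMap i hU (hU.preimage i) (i.app_surjective U hU) w hxU).2
  have hle : RingHom.ker (iY.app U).hom ⊔ RingHom.ker (iZ.app U).hom ≤ p.asIdeal := ker_inter iY iZ hU ▸ hk
  obtain ⟨fs, gs, hfl, hgl, hreg, hf, hg⟩ := transversal_atPrime hCM iY iZ hY hZ hcodim hU p hle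
  obtain ⟨g, hgp, hg'⟩ := exists_away_seq' .regular p.asIdeal (RingHom.ker (i.app U).hom) hk
    (Localization.AtPrime p.asIdeal) _ hreg (by
      rw [ker_inter iY iZ hU, ← Ideal.map_ofList, Ideal.ofList_append, Ideal.map_sup, hf, hg, ← Ideal.map_sup])
  obtain ⟨h1, h2, h3⟩ := KRLib.basicOpen_data i hU (hU.preimage i) (i.app_surjective U hU) g
  letI : Algebra Γ(X, U) Γ(X, X.basicOpen g) :=
    (X.presheaf.map (homOfLE (X.basicOpen_le g)).op).hom.toAlgebra
  haveI : IsLocalization.Away g Γ(X, X.basicOpen g) := hU.isLocalization_basicOpen g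
  obtain ⟨rs', hlen, hrs', hI⟩ := hg' Γ(X, X.basicOpen g)
  refine ⟨⟨X.basicOpen g, hU.basicOpen g⟩, ?_,
    (KRLib.isClosedImmersion_restrict_iff i (hU.basicOpen g)).2 ⟨h1, h2⟩, rs',
    by rw [hlen, List.length_map, List.length_append, hfl, hgl], hrs', h3.trans hI.symm⟩
  show i w ∈ X.basicOpen g
  rw [show i w = hU.fromSpec p from (hU.fromSpec_primeIdealOf ⟨i w, hxU⟩).symm]
  show p ∈ hU.fromSpec ⁻¹ᵁ X.basicOpen g
  rw [hU.fromSpec_preimage_basicOpen g]
  exact hgp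

theorem tor_vanish {U : X.Opens} (hU : IsAffineOpen U) (i : ℕ) (hi : 0 < i) :
    Subsingleton (@DRing.Tor Γ(X, U) _ i Γ(Y, iY ⁻¹ᵁ U) Γ(Z, iZ ⁻¹ᵁ U) _ (iY.app U).hom.toModule _
      (iZ.app U).hom.toModule) := by
  obtain ⟨q, rfl⟩ : ∃ q, i = q + 1 := ⟨i - 1, by omega⟩
  let A := Γ(X, U)
  haveI : IsNoetherianRing A := IsLocallyNoetherian.component_noetherian ⟨U, hU⟩
  letI : Algebra A Γ(Y, iY ⁻¹ᵁ U) := (iY.app U).hom.toAlgebra
  letI : Algebra A Γ(Z, iZ ⁻¹ᵁ U) := (iZ.app U).hom.toAlgebra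
  let I := RingHom.ker (iY.app U).hom
  let J := RingHom.ker (iZ.app U).hom
  let eY : (A ⧸ I) ≃ₐ[A] Γ(Y, iY ⁻¹ᵁ U) :=
    Ideal.quotientKerAlgEquivOfSurjective (f := Algebra.ofId A Γ(Y, iY ⁻¹ᵁ U)) (iY.app_surjective U hU)
  let eZ : (A ⧸ J) ≃ₐ[A] Γ(Z, iZ ⁻¹ᵁ U) :=
    Ideal.quotientKerAlgEquivOfSurjective (f := Algebra.ofId A Γ(Z, iZ ⁻¹ᵁ U)) (iZ.app_surjective U hU)
  let P := ProjectiveResolution.of (ModuleCat.of A Γ(Z, iZ ⁻¹ᵁ U))
  show Subsingleton (DRing.Tor A (q + 1) Γ(Y, iY ⁻¹ᵁ U) Γ(Z, iZ ⁻¹ᵁ U))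
  refine TorDimLib.subsingleton_tor_of_exactAtSucc P q (exactAtSucc_congr P eY.toLinearEquiv ?_)
  refine exactAtSucc_quotient_of_local P I (fun m _ => ?_) q
  let L := Localization.AtPrime m
  haveI : IsNoetherianRing L := IsLocalization.isNoetherianRing m.primeCompl _ inferInstance
  -- `L ⊗ Γ(Z)` as a quotient of `L`
  let eLZ : L ⊗[A] Γ(Z, iZ ⁻¹ᵁ U) ≃ₗ[A] (L ⧸ (J.map (algebraMap A L)).restrictScalars A) :=
    (eZ.toLinearEquiv.symm.lTensor L).trans
      (((Algebra.TensorProduct.quotIdealMapEquivTensorQuot L J).toLinearEquiv.restrictScalars A).symm.trans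
        (Submodule.Quotient.restrictScalarsEquiv A (J.map (algebraMap A L))).symm)
  have top_case : ∀ (K : Ideal A), ¬ K ≤ m → ∃ x ∈ K, IsUnit (algebraMap A L x) ∧ K.map (algebraMap A L) = ⊤ := by
    intro K hK
    obtain ⟨x, hx, hxm⟩ := Set.not_subset.1 hK
    exact ⟨x, hx, IsLocalization.map_units L (⟨x, hxm⟩ : m.primeCompl),
      Ideal.eq_top_of_isUnit_mem _ (Ideal.mem_map_of_mem _ hx) (IsLocalization.map_units L (⟨x, hxm⟩ : m.primeCompl))⟩
  by_cases hIm : I ≤ m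
  · by_cases hJm : J ≤ m
    · obtain ⟨fs, gs, -, -, hreg, hf, hg⟩ :=
        transversal_atPrime hCM iY iZ hY hZ hcodim hU ⟨m, inferInstance⟩ (sup_le hIm hJm)
      rw [List.map_append] at hreg
      have hgf := IsLocalRing.isWeaklyRegular_of_perm_of_subset_maximalIdeal hreg.toIsWeaklyRegular
        List.perm_append_comm (mem_maximalIdeal_of_isRegular hreg)
      have hfg := hreg.toIsWeaklyRegular
      rw [isWeaklyRegular_append_iff] at hfg hgf
      refine ⟨fs, (isWeaklyRegular_map_algebraMap_iff L L fs).1 hfg.1, ?_, hf⟩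
      refine ((eLZ.trans (Submodule.Quotient.restrictScalarsEquiv A (J.map (algebraMap A L)))).isWeaklyRegular_congr fs).2 ?_
      refine (isWeaklyRegular_map_algebraMap_iff L (L ⧸ J.map (algebraMap A L)) fs).1 ?_
      exact ((Submodule.quotEquivOfEq _ _ (by rw [smul_eq_mul, Ideal.mul_top, ← Ideal.map_ofList, hg]))
        |>.isWeaklyRegular_congr _).1 hgf.2
    · obtain ⟨x, -, -, hJtop⟩ := top_case J hJm
      obtain ⟨fs, -, -, hreg, hf⟩ := exists_seq_atPrime iY hU a hY ⟨m, inferInstance⟩ hIm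
      refine ⟨fs, (isWeaklyRegular_map_algebraMap_iff L L fs).1 hreg.toIsWeaklyRegular, ?_, hf⟩
      haveI : Subsingleton (L ⧸ (J.map (algebraMap A L)).restrictScalars A) :=
        (Submodule.Quotient.restrictScalarsEquiv A (J.map (algebraMap A L))).toEquiv.subsingleton_congr.2
          (Ideal.Quotient.subsingleton_iff.2 hJtop)
      haveI : Subsingleton (L ⊗[A] Γ(Z, iZ ⁻¹ᵁ U)) := eLZ.toEquiv.subsingleton
      exact ⟨fun j hj => fun x y _ => Subsingleton.elim x y⟩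
  · obtain ⟨x, -, hx, hItop⟩ := top_case I hIm
    have hreg : ∀ (M : Type u) [AddCommGroup M] [Module A M] [Module L M] [IsScalarTower A L M],
        IsWeaklyRegular M [x] := fun M _ _ _ _ => by
      rw [isWeaklyRegular_singleton_iff]
      intro m₁ m₂ h
      obtain ⟨u, hu⟩ := hx
      have h' : (algebraMap A L x) • m₁ = (algebraMap A L x) • m₂ := by
        simpa only [algebraMap_smul] using h
      rw [← hu] at h'
      exact (smul_left_cancel u h' : m₁ = m₂)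
    refine ⟨[x], hreg L, hreg (L ⊗[A] Γ(Z, iZ ⁻¹ᵁ U)), ?_⟩
    rw [hItop, Ideal.ofList_singleton, Ideal.map_span, Set.image_singleton]
    exact Ideal.span_singleton_eq_top.2 hx

end RegImmKindLib
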