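import Groth.Agent.KRLib.Model
import Groth.Agent.KoszDetLib.Cone
import Groth.Agent.KRLib.Ideal
import Groth.Agent.KRLib.Imm
import Groth.Agent.KRLib.ImmFlat
import Groth.Agent.KRLib.Seq
import Groth.Agent.S2103
import Groth.Agent.S15821
import Groth.Prelude.Def_RegImm
import Mathlib

/-!
# The four kinds of sequences: implications and flat base change
-/

set_option autoImplicit false
set_option linter.style.haveILetI false

noncomputable section

universe u

open RingTheory.Sequence KoszDetLib CategoryTheory CategoryTheory.Limits AlgebraicGeometry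

namespace RegImmKindLib

variable {Q : Type u} [CommRing Q]

/-- The degree one coefficients. -/
def deg1 : ∀ n : ℕ, Kz Q n → Fin n → Q
  | 0, _ => Fin.elim0
  | n + 1, x => Fin.cons (eps (pb x)) (deg1 n (pa x))

theorem deg1_add : ∀ (n : ℕ) (x y : Kz Q n), deg1 n (x + y) = deg1 n x + deg1 n y
  | 0, _, _ => funext fun i => i.elim0
  | n + 1, x, y => by
    funext i
    refine Fin.cases ?_ (fun i => ?_) i
    · simp [deg1]
    · simp [deg1, deg1_add n]

theorem deg1_smul : ∀ (n : ℕ) (c : Q) (x : Kz Q n), deg1 n (c • x) = c • deg1 n x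
  | 0, _, _ => funext fun i => i.elim0
  | n + 1, c, x => by
    funext i
    refine Fin.cases ?_ (fun i => ?_) i
    · simp [deg1]
    · simp [deg1, deg1_smul n]

theorem eps_D : ∀ {n : ℕ} (f : Fin n → Q) (x : Kz Q n), eps (D f x) = ∑ i, deg1 n x i * f i
  | 0, _, _ => by simp [D]
  | n + 1, f, x => by
    show eps (pa (D f x)) = _
    rw [pa_D, map_add, map_smul, eps_D (Fin.tail f) (pa x), Fin.sum_univ_succ, smul_eq_mul, add_comm]
    simp [deg1, Fin.tail, mul_comm]

theorem deg1_D : ∀ {n : ℕ} (f : Fin n → Q) (x : Kz Q n),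
    deg1 n (D f x) ∈ Submodule.span Q
      {v : Fin n → Q | ∃ i j : Fin n, v = Pi.single i (f j) - Pi.single j (f i)}
  | 0, f, x => by rw [Subsingleton.elim (deg1 0 (D f x)) 0]; exact zero_mem _
  | n + 1, f, x => by
    classical
    let T := {v : Fin (n + 1) → Q | ∃ i j : Fin (n + 1), v = Pi.single i (f j) - Pi.single j (f i)}
    let c := deg1 n (pb x)
    have h1 : deg1 (n + 1) (D f x) =
        Fin.cons (0 : Q) (deg1 n (D (Fin.tail f) (pa x))) +
          ∑ j : Fin n, c j • (Pi.single j.succ (f 0) - Pi.single (0 : Fin (n + 1)) (f j.succ)) := by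
      funext i
      refine Fin.cases ?_ (fun i => ?_) i
      · simp [deg1, pb_D, eps_D, c, Fin.tail, Finset.sum_apply, Pi.single_apply, Fin.succ_ne_zero,
          Finset.sum_neg_distrib]
      · simp [deg1, pa_D, deg1_add, deg1_smul, c, Finset.sum_apply, Pi.single_apply, Fin.succ_ne_zero,
          Finset.sum_neg_distrib, mul_comm]
    rw [h1]
    refine add_mem ?_ (sum_mem fun j _ => Submodule.smul_mem _ _ (Submodule.subset_span ⟨j.succ, 0, rfl⟩))
    have h2 := deg1_D (Fin.tail f) (pa x)
    generalize deg1 n (D (Fin.tail f) (pa x)) = v at h2 ⊢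
    induction h2 using Submodule.span_induction with
    | mem v hv =>
      obtain ⟨i, j, rfl⟩ := hv
      refine Submodule.subset_span ⟨i.succ, j.succ, ?_⟩
      funext k
      refine Fin.cases ?_ (fun k => ?_) k
      · simp [Fin.succ_ne_zero]
      · simp [Fin.tail, Pi.single_apply]
    | zero =>
      convert zero_mem (Submodule.span Q T) using 1
      funext k; refine Fin.cases ?_ (fun k => ?_) k <;> simp
    | add v w _ _ hv hw =>
      convert add_mem hv hw using 1
      funext k; refine Fin.cases ?_ (fun k => ?_) k <;> simp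
    | smul a v _ hv =>
      convert Submodule.smul_mem _ a hv using 1
      funext k; refine Fin.cases ?_ (fun k => ?_) k <;> simp

theorem deg1_L_one : ∀ {n : ℕ} (a : Fin n → Q), deg1 n (L a (one n)) = a
  | 0, _ => funext fun i => i.elim0
  | n + 1, a => by
    funext i
    have ha : pa (one (n + 1) : Kz Q (n + 1)) = one n := rfl
    have hb : pb (one (n + 1) : Kz Q (n + 1)) = 0 := rfl
    refine Fin.cases ?_ (fun i => ?_) i
    · simp [deg1, pb_L, ha, hb, eps_one]
    · show deg1 n (pa (L a (one (n + 1)))) i = _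
      rw [pa_L, ha, deg1_L_one]
      rfl

theorem isH1Regular_of_isExactK {n : ℕ} {f : Fin n → Q} (hf : IsExactK f) : CAlgX.IsH1Regular f := by
  intro a h
  have h1 : D f (L a (one n)) = 0 := by
    have := D_L f a (one n)
    rwa [D_one, map_zero, add_zero, h, zero_smul] at this
  obtain ⟨w, hw⟩ := hf _ h1 (by rw [eps_L]; exact Ideal.zero_mem _)
  have h2 := deg1_D f w
  rwa [hw, deg1_L_one] at h2

theorem seq_koszul_of_regular {rs : List Q} (h : RegImm.Kind.regular.Seq Q rs) : RegImm.Kind.koszul.Seq Q rs :=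
  (Groth.Agent.S15821.result Q rs (IsRegular.toIsWeaklyRegular h)).1

theorem seq_h1_of_koszul {rs : List Q} (h : RegImm.Kind.koszul.Seq Q rs) : RegImm.Kind.h1.Seq Q rs :=
  isH1Regular_of_isExactK (isExactK_of_isKoszulRegularSeq rs.get (by rw [List.ofFn_get]; exact h))

theorem seq_quasi_of_h1 {rs : List Q} (h : RegImm.Kind.h1.Seq Q rs) : RegImm.Kind.quasi.Seq Q rs :=
  Groth.Agent.S2103.result rs.get h

variable {R : Type u} [CommRing R] [Algebra Q R] [Module.Flat Q R]

omit [Module.Flat Q R] in
theorem range_map {c : ℕ} (f : Fin c → Q) :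
    Ideal.span (Set.range fun i => algebraMap Q R (f i)) = (Ideal.span (Set.range f)).map (algebraMap Q R) := by
  rw [Ideal.map_span, ← Set.range_comp]
  rfl

theorem isH1Regular_map {c : ℕ} {f : Fin c → Q} (hf : CAlgX.IsH1Regular f) :
    CAlgX.IsH1Regular (fun i => algebraMap Q R (f i)) := by
  classical
  intro a ha
  have h0 : ∑ i, f i • a i = 0 := by
    rw [← ha]
    exact Finset.sum_congr rfl fun i _ => by rw [Algebra.smul_def, mul_comm]
  obtain ⟨k, b, y, hy, hb⟩ := Module.Flat.isTrivialRelation_of_sum_smul_eq_zero (R := Q) (M := R) h0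
  let φ : (Fin c → Q) →ₗ[Q] (Fin c → R) := LinearMap.pi fun i => (Algebra.linearMap Q R).comp (LinearMap.proj i)
  have ha' : a = ∑ j, y j • φ (fun i => b i j) := by
    funext i
    rw [hy i, Finset.sum_apply]
    exact Finset.sum_congr rfl fun j _ => by
      rw [Algebra.smul_def]
      exact mul_comm _ _
  rw [ha']
  refine sum_mem fun j _ => Submodule.smul_mem _ _ ?_
  have hj := hf (fun i => b i j) (by rw [← hb j]; exact Finset.sum_congr rfl fun i _ => mul_comm _ _)
  have := Submodule.mem_map_of_mem (f := φ) hj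
  rw [Submodule.map_span] at this
  refine Submodule.span_le_restrictScalars Q R _ (Submodule.span_mono ?_ this)
  rintro _ ⟨_, ⟨i, l, rfl⟩, rfl⟩
  refine ⟨i, l, ?_⟩
  funext m
  simp only [φ, LinearMap.pi_apply, LinearMap.comp_apply, LinearMap.proj_apply, Algebra.linearMap_apply,
    Pi.sub_apply, map_sub]
  congr 1 <;> exact Pi.apply_single (fun _ => algebraMap Q R) (fun _ => map_zero _) _ _ m

theorem isQuasiRegular_map {c : ℕ} {f : Fin c → Q} (hf : CAlgX.IsQuasiRegular f) :
    CAlgX.IsQuasiRegular (fun i => algebraMap Q R (f i)) := by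
  classical
  intro n P hP hPI
  rw [range_map, ← Ideal.map_pow] at hPI
  intro d
  rw [range_map]
  obtain ⟨k, y, s, hs⟩ := Submodule.mem_span_set'.1 hPI
  choose b hb hbs using fun j => (s j).2
  -- one linear relation with coefficients in the base
  let mon : (Fin c →₀ ℕ) → Q := fun e => e.prod fun i m => f i ^ m
  let t : P.support ⊕ Fin k → Q := Sum.elim (fun e => mon e.1) (fun j => -b j)
  let x : P.support ⊕ Fin k → R := Sum.elim (fun e => P.coeff e.1) y
  have h0 : ∑ i, t i • x i = 0 := by
    rw [Fintype.sum_sum_type]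
    simp only [t, x, Sum.elim_inl, Sum.elim_inr, neg_smul, Finset.sum_neg_distrib]
    rw [← sub_eq_add_neg, sub_eq_zero, Finset.sum_coe_sort P.support (fun e => mon e • P.coeff e)]
    calc ∑ e ∈ P.support, mon e • P.coeff e = MvPolynomial.eval (fun i => algebraMap Q R (f i)) P := by
          rw [MvPolynomial.eval_eq]
          refine Finset.sum_congr rfl fun e _ => ?_
          rw [Algebra.smul_def, mul_comm, map_finsuppProd]
          simp only [Finsupp.prod, map_pow]
      _ = ∑ j, b j • y j := by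
          rw [← hs]
          exact Finset.sum_congr rfl fun j _ => by rw [← hbs, Algebra.smul_def (b j), smul_eq_mul, mul_comm]
  obtain ⟨l, C, z, hz, hC⟩ := Module.Flat.isTrivialRelation_of_sum_smul_eq_zero (R := Q) (M := R) h0
  by_cases hd : d ∈ P.support
  swap
  · rw [MvPolynomial.notMem_support_iff.1 hd]
    exact zero_mem _
  rw [show P.coeff d = ∑ j, C (Sum.inl ⟨d, hd⟩) j • z j from hz (Sum.inl ⟨d, hd⟩)]
  refine sum_mem fun j _ => ?_
  rw [Algebra.smul_def]
  refine Ideal.mul_mem_right _ _ (Ideal.mem_map_of_mem _ ?_)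
  let P' : MvPolynomial (Fin c) Q := ∑ e : P.support, MvPolynomial.monomial e.1 (C (Sum.inl e) j)
  have hP' : P'.IsHomogeneous n := MvPolynomial.IsHomogeneous.sum _ _ _ fun e _ =>
    MvPolynomial.isHomogeneous_monomial _ (hP.degree_eq_sum_deg_support e.2).symm
  have he : MvPolynomial.eval f P' ∈ Ideal.span (Set.range f) ^ (n + 1) := by
    have h := hC j
    rw [Fintype.sum_sum_type] at h
    simp only [t, Sum.elim_inl, Sum.elim_inr, neg_mul, Finset.sum_neg_distrib] at h
    rw [← sub_eq_add_neg, sub_eq_zero] at h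
    have h' : MvPolynomial.eval f P' = ∑ e : P.support, mon e.1 * C (Sum.inl e) j := by
      rw [map_sum]
      exact Finset.sum_congr rfl fun e _ => by rw [MvPolynomial.eval_monomial, mul_comm]
    rw [h', h]
    exact sum_mem fun i _ => Ideal.mul_mem_right _ _ (hb i)
  have hc := hf n P' hP' he d
  have hcd : P'.coeff d = C (Sum.inl ⟨d, hd⟩) j := by
    rw [MvPolynomial.coeff_sum, Finset.sum_eq_single ⟨d, hd⟩
      (fun e _ hne => by rw [MvPolynomial.coeff_monomial, if_neg fun h => hne (Subtype.ext h)])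
      (fun h => absurd (Finset.mem_univ _) h), MvPolynomial.coeff_monomial, if_pos rfl]
  rwa [hcd] at hc

/-- Flat base change of a sequence of any kind. -/
theorem seq_map (k : RegImm.Kind) {rs : List Q} (h : k.Seq Q rs)
    (hne : (Ideal.ofList rs).map (algebraMap Q R) ≠ ⊤) : k.Seq R (rs.map (algebraMap Q R)) := by
  have hof : rs.map (algebraMap Q R) = List.ofFn fun i => algebraMap Q R (rs.get i) := by
    conv_lhs => rw [← List.ofFn_get rs, List.map_ofFn]
    rfl
  have key : ∀ {m n : ℕ} (f : Fin m → R) (g : Fin n → R) (P : ∀ {k : ℕ}, (Fin k → R) → Prop),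
      List.ofFn f = List.ofFn g → P f → P g := by
    intro m n f g P e hp
    obtain rfl : m = n := by simpa using congrArg List.length e
    rwa [← List.ofFn_injective e]
  cases k with
  | regular =>
    refine ⟨IsWeaklyRegular.of_flat (S := R) (IsRegular.toIsWeaklyRegular h), ?_⟩
    rw [smul_eq_mul, Ideal.mul_top, ← Ideal.map_ofList]
    exact hne.symm
  | koszul =>
    show LCI.IsKoszulRegularSeq R _
    rw [hof]
    exact KRLib.isKoszulRegularSeq_of_isExactK _
      (KRLib.isExactK_of_flat (isExactK_of_isKoszulRegularSeq rs.get (by rw [List.ofFn_get]; exact h)))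
  | h1 =>
    exact key _ _ (fun f => CAlgX.IsH1Regular f) (hof.symm.trans (List.ofFn_get _).symm) (isH1Regular_map h)
  | quasi =>
    exact key _ _ (fun f => CAlgX.IsQuasiRegular f) (hof.symm.trans (List.ofFn_get _).symm) (isQuasiRegular_map h)

/-- Flat base change of regular immersions of any kind, at a point. -/
theorem isRegularImmersionAt_baseChange {X X' Z Z' : Scheme.{u}} {i : Z ⟶ X} {g : X' ⟶ X} [Flat g]
    {g' : Z' ⟶ Z} {i' : Z' ⟶ X'} (hsq : IsPullback g' i' i g) (k : RegImm.Kind) (z : Z')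
    (h : RegImm.IsRegularImmersionAt k i (g' z)) : RegImm.IsRegularImmersionAt k i' z := by
  obtain ⟨⟨U, hU⟩, hzU, hcl, rs, hrs, hker⟩ := h
  obtain ⟨hU', hs⟩ := (KRLib.isClosedImmersion_restrict_iff i hU).1 hcl
  have hz : g (i' z) ∈ U := by rw [← Scheme.Hom.comp_apply, ← hsq.w, Scheme.Hom.comp_apply]; exact hzU
  obtain ⟨W, hW, hzW, hWU⟩ := exists_isAffineOpen_mem_and_subset (x := i' z) (U := g ⁻¹ᵁ U) hz
  obtain ⟨h1, h2, h3⟩ := KRLib.baseChange_data hsq hU hU' hs hW hWU
  letI := (g.appLE U W hWU).hom.toAlgebra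
  haveI : Module.Flat Γ(X, U) Γ(X', W) := g.flat_appLE hU hW hWU
  have h3' : RingHom.ker (i'.app W).hom = (Ideal.ofList rs).map (algebraMap Γ(X, U) Γ(X', W)) := by
    rw [h3, hker]; rfl
  have hne : (Ideal.ofList rs).map (algebraMap Γ(X, U) Γ(X', W)) ≠ ⊤ := fun htop => by
    rw [← h3', Ideal.eq_top_iff_one, RingHom.mem_ker, map_one] at htop
    have h4 : z ∈ Z'.basicOpen (1 : Γ(Z', i' ⁻¹ᵁ W)) := by
      rw [Scheme.basicOpen_of_isUnit Z' isUnit_one]; exact hzW
    rw [htop, Scheme.basicOpen_zero] at h4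
    exact h4
  exact ⟨⟨W, hW⟩, hzW, (KRLib.isClosedImmersion_restrict_iff i' hW).2 ⟨h1, h2⟩, _, seq_map k hrs hne,
    h3'.trans (Ideal.map_ofList _ rs)⟩

end RegImmKindLib
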