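import Groth.Agent.RegImmKindLib.KindFlat
import Groth.Agent.KRLib.FF
import Groth.Agent.PP16Lib.QR
import Groth.Agent.CILib.MinGen
import Mathlib

/-!
# Ideals locally generated by a sequence of a given kind
-/

set_option autoImplicit false
set_option linter.style.haveILetI false

noncomputable section

universe u

open RingTheory.Sequence CategoryTheory CategoryTheory.Limits AlgebraicGeometry KRLib

namespace RegImmKindLib

variable {k : RegImm.Kind}

/-- Generated by a sequence of kind `k`. -/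
def GenK (k : RegImm.Kind) {Q : Type u} [CommRing Q] (I : Ideal Q) : Prop :=
  ∃ rs : List Q, k.Seq Q rs ∧ I = Ideal.ofList rs

/-- Locally generated by sequences of kind `k`. -/
def LocK (k : RegImm.Kind) {Q : Type u} [CommRing Q] (I : Ideal Q) : Prop :=
  ∀ p : Ideal Q, p.IsPrime → I ≤ p → ∃ g, g ∉ p ∧ GenK k (I.map (algebraMap Q (Localization.Away g)))

variable {Q R : Type u} [CommRing Q] [CommRing R]

theorem seq_congr_get {m n : ℕ} (f : Fin m → R) (g : Fin n → R) (P : ∀ {k : ℕ}, (Fin k → R) → Prop)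
    (e : List.ofFn f = List.ofFn g) (hp : P f) : P g := by
  obtain rfl : m = n := by simpa using congrArg List.length e
  rwa [← List.ofFn_injective e]

theorem seq_map' [Algebra Q R] [Module.Flat Q R] (hk : k ≠ .regular) {rs : List Q} (h : k.Seq Q rs) :
    k.Seq R (rs.map (algebraMap Q R)) := by
  have hof : rs.map (algebraMap Q R) = List.ofFn fun i => algebraMap Q R (rs.get i) := by
    conv_lhs => rw [← List.ofFn_get rs, List.map_ofFn]
    rfl
  cases k with
  | regular => exact absurd rfl hk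
  | koszul =>
    show LCI.IsKoszulRegularSeq R _
    rw [hof]
    exact KRLib.isKoszulRegularSeq_of_isExactK _
      (KRLib.isExactK_of_flat (KoszDetLib.isExactK_of_isKoszulRegularSeq rs.get (by rw [List.ofFn_get]; exact h)))
  | h1 =>
    exact seq_congr_get _ _ (fun f => CAlgX.IsH1Regular f) (hof.symm.trans (List.ofFn_get _).symm) (isH1Regular_map h)
  | quasi =>
    exact seq_congr_get _ _ (fun f => CAlgX.IsQuasiRegular f) (hof.symm.trans (List.ofFn_get _).symm)
      (isQuasiRegular_map h)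

theorem GenK.map_flat [Algebra Q R] [Module.Flat Q R] (hk : k ≠ .regular) {I : Ideal Q} (h : GenK k I) :
    GenK k (I.map (algebraMap Q R)) := by
  obtain ⟨rs, hrs, rfl⟩ := h
  exact ⟨_, seq_map' hk hrs, Ideal.map_ofList _ rs⟩

theorem GenK.map_bijective (hk : k ≠ .regular) (σ : Q →+* R) (hσ : Function.Bijective σ) {I : Ideal Q}
    (h : GenK k I) : GenK k (I.map σ) := by
  letI := σ.toAlgebra
  haveI : Module.Flat Q R := RingHom.Flat.of_bijective hσ
  exact GenK.map_flat hk h

/-- Regularity on `D(g)` persists on any flat algebra where `g` is invertible. -/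
theorem GenK.map_of_isUnit [Algebra Q R] [Module.Flat Q R] (hk : k ≠ .regular) {I : Ideal Q} {g : Q}
    (hg : IsUnit (algebraMap Q R g)) (h : GenK k (I.map (algebraMap Q (Localization.Away g)))) :
    GenK k (I.map (algebraMap Q R)) := by
  let L := Localization.Away g
  letI : Algebra L R := (IsLocalization.Away.lift g hg).toAlgebra
  haveI : IsScalarTower Q L R :=
    IsScalarTower.of_algebraMap_eq fun x => (IsLocalization.Away.lift_eq g hg x).symm
  haveI : Module.Flat L R := (Module.flat_iff_of_isLocalization L (Submonoid.powers g) R).mpr inferInstance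
  have h2 := GenK.map_flat (R := R) hk h
  rwa [Ideal.map_map, ← IsScalarTower.algebraMap_eq] at h2

theorem locK_of_cover (hk : k ≠ .regular) {I : Ideal Q}
    (h : ∀ p : Ideal Q, p.IsPrime → I ≤ p → ∃ u, u ∉ p ∧
      LocK k (I.map (algebraMap Q (Localization.Away u)))) : LocK k I := by
  intro p hp hIp
  obtain ⟨u, hu, hloc⟩ := h p hp hIp
  let P₁ := Localization.Away u
  let ι := algebraMap Q P₁
  have hdisj : Disjoint (Submonoid.powers u : Set Q) p := by
    rw [Set.disjoint_left]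
    rintro _ ⟨j, rfl⟩ hj
    exact hu (hp.mem_of_pow_mem j hj)
  obtain ⟨g, hg, hgen⟩ := hloc (p.map ι)
    (IsLocalization.isPrime_of_isPrime_disjoint (Submonoid.powers u) P₁ p hp hdisj)
    (Ideal.map_mono hIp)
  obtain ⟨⟨g₀, ⟨_, j, rfl⟩⟩, hg₀⟩ := IsLocalization.surj (Submonoid.powers u) g
  have hg₀p : g₀ ∉ p := fun h1 => hg (by
    have h2 : g * ι (u ^ j) ∈ p.map ι := hg₀ ▸ Ideal.mem_map_of_mem ι h1
    exact (Ideal.mul_unit_mem_iff_mem _ ((IsLocalization.map_units P₁
      (⟨u ^ j, j, rfl⟩ : Submonoid.powers u)))).1 h2)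
  refine ⟨u * g₀, fun h1 => (hp.mem_or_mem h1).elim hu hg₀p, ?_⟩
  let L := Localization.Away (u * g₀)
  have hun : IsUnit (algebraMap Q L u) ∧ IsUnit (algebraMap Q L g₀) :=
    IsUnit.mul_iff.1 (map_mul (algebraMap Q L) u g₀ ▸ IsLocalization.Away.algebraMap_isUnit (u * g₀))
  letI : Algebra P₁ L := (IsLocalization.Away.lift u hun.1).toAlgebra
  haveI : IsScalarTower Q P₁ L :=
    IsScalarTower.of_algebraMap_eq fun x => (IsLocalization.Away.lift_eq u hun.1 x).symm
  haveI : Module.Flat P₁ L :=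
    (Module.flat_iff_of_isLocalization P₁ (Submonoid.powers u) L).mpr inferInstance
  have h2 := GenK.map_of_isUnit (R := L) (g := g) hk (by
    have h3 : algebraMap P₁ L g * algebraMap P₁ L (ι (u ^ j)) = algebraMap P₁ L (ι g₀) := by
      rw [← map_mul]; exact congrArg _ hg₀
    have h4 : IsUnit (algebraMap P₁ L (ι g₀)) := (IsScalarTower.algebraMap_apply Q P₁ L g₀) ▸ hun.2
    exact isUnit_of_mul_isUnit_left (h3 ▸ h4)) hgen
  rwa [Ideal.map_map, ← IsScalarTower.algebraMap_eq] at h2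

theorem LocK.map_flat [Algebra Q R] [Module.Flat Q R] (hk : k ≠ .regular) {I : Ideal Q} (h : LocK k I) :
    LocK k (I.map (algebraMap Q R)) := by
  intro P hP hIP
  obtain ⟨g, hg, hgen⟩ := h (P.comap (algebraMap Q R)) inferInstance (Ideal.map_le_iff_le_comap.1 hIP)
  refine ⟨algebraMap Q R g, hg, ?_⟩
  haveI : Module.Flat Q (Localization.Away (algebraMap Q R g)) := Module.Flat.trans Q R _
  have h2 := GenK.map_of_isUnit (R := Localization.Away (algebraMap Q R g)) hk (by
    rw [IsScalarTower.algebraMap_apply Q R (Localization.Away (algebraMap Q R g))]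
    exact IsLocalization.Away.algebraMap_isUnit _) hgen
  rwa [IsScalarTower.algebraMap_eq Q R (Localization.Away (algebraMap Q R g)), ← Ideal.map_map] at h2

theorem locK_koszul_iff (I : Ideal Q) : LocK .koszul I ↔ LCI.IsKoszulRegularIdeal I :=
  ⟨fun h 𝔭 h𝔭 => h 𝔭.asIdeal 𝔭.isPrime h𝔭, fun h p hp hIp => h ⟨p, hp⟩ hIp⟩

theorem locK_quasi_iff (I : Ideal Q) : LocK .quasi I ↔ PP16.IsLocallyQuasiRegular Q I := by
  constructor
  · intro h P hP hIP
    obtain ⟨g, hg, rs, hrs, he⟩ := h P hP hIP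
    refine ⟨g, hg, rs.length, rs.get, hrs, ?_⟩
    rw [he, ← CILib.ofList_ofFn, List.ofFn_get]
  · intro h p hp hIp
    obtain ⟨g, hg, r, f, hf, he⟩ := h p hIp
    exact ⟨g, hg, List.ofFn f, seq_congr_get f _ (fun f => CAlgX.IsQuasiRegular f) (List.ofFn_get _).symm hf,
      by rw [CILib.ofList_ofFn, he]⟩

theorem LocK.fg (hk : k = .h1) {I : Ideal Q} (h : LocK k I) : I.FG := by
  subst hk
  refine PP16Lib.fg_of_isLocallyQuasiRegular ((locK_quasi_iff I).1 fun p hp hIp => ?_)
  obtain ⟨g, hg, rs, hrs, he⟩ := h p hp hIp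
  exact ⟨g, hg, rs, seq_quasi_of_h1 hrs, he⟩

/-- Regularity at every point gives regularity of the ideal on any closed affine chart. -/
theorem locK_ker_of_forall {X Z : Scheme.{u}} {i : Z ⟶ X} (hk : k ≠ .regular)
    (hall : ∀ z : Z, RegImm.IsRegularImmersionAt k i z) {W : X.Opens}
    (hW : IsAffineOpen W) (hW' : IsAffineOpen (i ⁻¹ᵁ W)) (hs : Function.Surjective (i.app W)) :
    LocK k (RingHom.ker (i.app W).hom) := by
  intro p hp hle
  have hp' : (p.map (i.app W).hom).IsPrime := Ideal.map_isPrime_of_surjective hs hle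
  let z : Z := hW'.fromSpec ⟨p.map (i.app W).hom, hp'⟩
  have hz : i z = hW.fromSpec ⟨p, hp⟩ := by
    have h1 := congrArg (fun φ : Spec Γ(Z, i ⁻¹ᵁ W) ⟶ X => φ ⟨p.map (i.app W).hom, hp'⟩)
      (IsAffineOpen.SpecMap_appLE_fromSpec i hW hW' (le_refl (i ⁻¹ᵁ W)))
    change hW.fromSpec (Spec.map (i.appLE W (i ⁻¹ᵁ W) le_rfl) ⟨p.map (i.app W).hom, hp'⟩) =
      i (hW'.fromSpec ⟨p.map (i.app W).hom, hp'⟩) at h1
    refine Eq.trans h1.symm (congrArg hW.fromSpec ?_)
    refine PrimeSpectrum.ext ?_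
    show (p.map (i.app W).hom).comap (i.appLE W (i ⁻¹ᵁ W) le_rfl).hom = p
    rw [← Scheme.Hom.app_eq_appLE, Ideal.comap_map_of_surjective _ hs]
    exact sup_eq_left.2 hle
  obtain ⟨⟨U, hU⟩, hzU, hcl, rs, hrs, hkU⟩ := hall z
  obtain ⟨hU', hsU⟩ := (isClosedImmersion_restrict_iff i hU).1 hcl
  have hzW : i z ∈ W := by rw [hz, ← SetLike.mem_coe, ← hW.range_fromSpec]; exact ⟨_, rfl⟩
  obtain ⟨f, g, e, hmem⟩ := exists_basicOpen_le_affine_inter hW hU (i z) ⟨hzW, hzU⟩
  obtain ⟨-, -, hker⟩ := basicOpen_data i hW hW' hs f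
  obtain ⟨-, -, hker'⟩ := basicOpen_data i hU hU' hsU g
  have hG : GenK k (RingHom.ker (i.app (X.basicOpen g)).hom) := by
    letI : Algebra Γ(X, U) Γ(X, X.basicOpen g) :=
      (X.presheaf.map (homOfLE (X.basicOpen_le g)).op).hom.toAlgebra
    haveI : IsLocalization.Away g Γ(X, X.basicOpen g) := hU.isLocalization_basicOpen g
    haveI : Module.Flat Γ(X, U) Γ(X, X.basicOpen g) := IsLocalization.flat _ (Submonoid.powers g)
    rw [hker']
    exact GenK.map_flat hk ⟨rs, hrs, hkU⟩
  rw [← e] at hG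
  refine ⟨f, fun hfp => ?_, ?_⟩
  · have h2 : (⟨p, hp⟩ : Spec Γ(X, W)) ∈ PrimeSpectrum.basicOpen f := by
      rw [← hW.fromSpec_preimage_basicOpen f]
      show hW.fromSpec ⟨p, hp⟩ ∈ X.basicOpen f
      rw [← hz]; exact hmem
    exact h2 hfp
  · letI : Algebra Γ(X, W) Γ(X, X.basicOpen f) :=
      (X.presheaf.map (homOfLE (X.basicOpen_le f)).op).hom.toAlgebra
    haveI : IsLocalization.Away f Γ(X, X.basicOpen f) := hW.isLocalization_basicOpen f
    rw [hker] at hG
    let E : Γ(X, X.basicOpen f) ≃ₐ[Γ(X, W)] Localization.Away f :=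
      IsLocalization.algEquiv (Submonoid.powers f) _ _
    have h4 := GenK.map_bijective hk E.toRingEquiv.toRingHom E.bijective hG
    rw [Ideal.map_map] at h4
    convert h4 using 2
    exact RingHom.ext fun x => (E.commutes x).symm

/-- A chart from a locally regular kernel. -/
theorem isRegularImmersionAt_of_locK {X Z : Scheme.{u}} {i : Z ⟶ X} (hk : k ≠ .regular) {U : X.Opens}
    (hU : IsAffineOpen U) (hU' : IsAffineOpen (i ⁻¹ᵁ U)) (hs : Function.Surjective (i.app U))
    (h : LocK k (RingHom.ker (i.app U).hom)) (z : Z) (hz : i z ∈ U) : RegImm.IsRegularImmersionAt k i z := by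
  let p := hU.primeIdealOf ⟨i z, hz⟩
  have hp : hU.fromSpec p = i z := hU.fromSpec_primeIdealOf ⟨i z, hz⟩
  have hle : RingHom.ker (i.app U).hom ≤ p.asIdeal := fun a ha => by
    by_contra hna
    have h1 : i z ∈ X.basicOpen a := by
      rw [← hp]
      show p ∈ hU.fromSpec ⁻¹ᵁ X.basicOpen a
      rw [hU.fromSpec_preimage_basicOpen a]
      exact hna
    have h2 : z ∈ i ⁻¹ᵁ X.basicOpen a := h1
    rw [Scheme.preimage_basicOpen, show i.app U a = 0 from ha, Scheme.basicOpen_zero] at h2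
    exact h2
  obtain ⟨g, hg, hgen⟩ := h p.asIdeal p.isPrime hle
  obtain ⟨h1, h2, h3⟩ := basicOpen_data i hU hU' hs g
  letI : Algebra Γ(X, U) Γ(X, X.basicOpen g) :=
    (X.presheaf.map (homOfLE (X.basicOpen_le g)).op).hom.toAlgebra
  haveI : IsLocalization.Away g Γ(X, X.basicOpen g) := hU.isLocalization_basicOpen g
  haveI : Module.Flat Γ(X, U) Γ(X, X.basicOpen g) := IsLocalization.flat _ (Submonoid.powers g)
  obtain ⟨rs, hrs, he⟩ := GenK.map_of_isUnit (R := Γ(X, X.basicOpen g)) hk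
    (IsLocalization.Away.algebraMap_isUnit g) hgen
  refine ⟨⟨X.basicOpen g, hU.basicOpen g⟩, ?_,
    (isClosedImmersion_restrict_iff i (hU.basicOpen g)).2 ⟨h1, h2⟩, rs, hrs, h3.trans he⟩
  rw [← hp]
  show p ∈ hU.fromSpec ⁻¹ᵁ X.basicOpen g
  rw [hU.fromSpec_preimage_basicOpen g]
  exact hg

end RegImmKindLib
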