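import Groth.Agent.RegImmKindLib.LocK
import Mathlib

/-!
# Faithfully flat descent of locally `H_1`-regular ideals
-/

set_option autoImplicit false
set_option linter.style.haveILetI false

noncomputable section

universe u

open KRLib

namespace RegImmKindLib

variable {A : Type u} [CommRing A]

/-- The trivial relations. -/
abbrev Triv {n : ℕ} (f : Fin n → A) : Submodule A (Fin n → A) :=
  Submodule.span A {v : Fin n → A | ∃ i j : Fin n, v = Pi.single i (f j) - Pi.single j (f i)}

theorem Triv_le {n : ℕ} (f : Fin n → A) : ∀ v ∈ Triv f, ∀ i, v i ∈ Ideal.span (Set.range f) := by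
  intro v hv i
  induction hv using Submodule.span_induction with
  | mem v hv =>
    obtain ⟨j, l, rfl⟩ := hv
    refine sub_mem ?_ ?_ <;>
    · rw [Pi.single_apply]
      split_ifs
      · exact Ideal.subset_span ⟨_, rfl⟩
      · exact zero_mem _
  | zero => exact zero_mem _
  | add v w _ _ hv hw => exact add_mem hv hw
  | smul c v _ hv => exact Ideal.mul_mem_left _ _ hv

theorem relation_of_mem_Triv {n : ℕ} (f : Fin n → A) : ∀ v ∈ Triv f, ∑ i, v i * f i = 0 := by
  intro v hv
  induction hv using Submodule.span_induction with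
  | mem v hv =>
    obtain ⟨j, l, rfl⟩ := hv
    simp only [Pi.sub_apply, sub_mul, Finset.sum_sub_distrib, Pi.single_apply, ite_mul, zero_mul,
      Finset.sum_ite_eq', Finset.mem_univ, if_true]
    ring
  | zero => simp
  | add v w _ _ hv hw => simp [add_mul, Finset.sum_add_distrib, hv, hw]
  | smul c v _ hv => simp [mul_assoc, ← Finset.mul_sum, hv]

/-- An invertible linear change preserves `H_1`-regularity. -/
theorem isH1Regular_of_matrix {n : ℕ} {F G : Fin n → A} (hF : CAlgX.IsH1Regular F)
    (C D : Matrix (Fin n) (Fin n) A) (hG : C.mulVec F = G) (hF' : D.mulVec G = F) (hCD : C * D = 1) :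
    CAlgX.IsH1Regular G := by
  classical
  intro a ha
  have h1 : ∑ i, (Matrix.vecMul a C) i * F i = 0 := by
    have h2 : dotProduct (Matrix.vecMul a C) F = dotProduct a (C.mulVec F) := (Matrix.dotProduct_mulVec a C F).symm
    rw [hG] at h2
    exact h2.trans ha
  have key : ∀ v ∈ Triv F, Matrix.vecMul v D ∈ Triv G := by
    intro v hv
    induction hv using Submodule.span_induction with
    | mem v hv =>
      obtain ⟨i, j, rfl⟩ := hv
      have hv' : Matrix.vecMul (Pi.single i (F j) - Pi.single j (F i)) D =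
          ∑ m, ∑ l, (D i m * D j l) • (Pi.single m (G l) - Pi.single l (G m) : Fin n → A) := by
        funext k
        have hFi : ∀ t, F t = ∑ l, D t l * G l := fun t => by rw [← hF']; rfl
        simp only [Matrix.sub_vecMul, Matrix.single_vecMul, Pi.sub_apply, Pi.smul_apply, Finset.sum_apply,
          smul_eq_mul, Matrix.row_apply, mul_sub, Finset.sum_sub_distrib, Pi.single_apply, mul_ite, mul_zero]
        rw [hFi j, hFi i]
        simp only [Finset.sum_mul, Finset.sum_ite_eq, Finset.sum_ite_eq', Finset.mem_univ, if_true]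
        refine congrArg₂ (· - ·) ?_ ?_
        · rw [Finset.sum_comm]
          simp only [Finset.sum_ite_eq, Finset.sum_ite_eq', Finset.mem_univ, if_true]
          exact Finset.sum_congr rfl fun l _ => by ring
        · exact Finset.sum_congr rfl fun l _ => by ring
      rw [hv']
      exact sum_mem fun m _ => sum_mem fun l _ => Submodule.smul_mem _ _ (Submodule.subset_span ⟨m, l, rfl⟩)
    | zero => rw [Matrix.zero_vecMul]; exact zero_mem _
    | add v w _ _ hv hw => rw [Matrix.add_vecMul]; exact add_mem hv hw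
    | smul c v _ hv => rw [Matrix.smul_vecMul]; exact Submodule.smul_mem _ _ hv
  have := key _ (hF _ h1)
  rwa [Matrix.vecMul_vecMul, hCD, Matrix.vecMul_one] at this

variable {B : Type u} [CommRing B]

/-- A conductor does not shrink under flat maps. -/
theorem exists_smul_mem [Algebra A B] [Module.Flat A B] {n : ℕ} (T : Submodule A (Fin n → A)) (P : Ideal B)
    [P.IsPrime] (x : Fin n → A) (h : B) (hh : h ∉ P)
    (hy : h • (fun i => algebraMap A B (x i)) ∈
      Submodule.span B ((fun v : Fin n → A => fun i => algebraMap A B (v i)) '' (T : Set (Fin n → A)))) :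
    ∃ c, c ∉ P.comap (algebraMap A B) ∧ c • x ∈ T := by
  classical
  let π : (Fin n → A) →ₗ[A] (Fin n → A) ⧸ T := T.mkQ
  let φ : A →ₗ[A] (Fin n → A) ⧸ T := LinearMap.toSpanSingleton A _ (π x)
  let K : Ideal A := LinearMap.ker φ
  let Φ : (Fin n → B) →ₗ[B] TensorProduct A B ((Fin n → A) ⧸ T) :=
    ∑ s, (LinearMap.proj s : (Fin n → B) →ₗ[B] B).smulRight ((1 : B) ⊗ₜ[A] π (Pi.single s 1))
  have hΦ : ∀ z : Fin n → A, Φ (fun i => algebraMap A B (z i)) = 1 ⊗ₜ[A] π z := fun z => by
    conv_rhs => rw [show z = ∑ s, z s • (Pi.single s 1 : Fin n → A) by funext t; simp [Finset.sum_apply, Pi.single_apply],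
      map_sum, TensorProduct.tmul_sum]
    simp only [Φ, LinearMap.sum_apply, LinearMap.smulRight_apply, LinearMap.proj_apply]
    refine Finset.sum_congr rfl fun s _ => ?_
    rw [map_smul, ← TensorProduct.smul_tmul, ← Algebra.algebraMap_eq_smul_one, TensorProduct.smul_tmul',
      smul_eq_mul, mul_one]
  have h0 : h ⊗ₜ[A] π x = (0 : TensorProduct A B ((Fin n → A) ⧸ T)) := by
    have h1 : Φ (h • fun i => algebraMap A B (x i)) = h ⊗ₜ[A] π x := by
      rw [map_smul, hΦ, TensorProduct.smul_tmul', smul_eq_mul, mul_one]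
    rw [← h1, ← LinearMap.mem_ker]
    refine (Submodule.span_le (p := LinearMap.ker Φ)).2 ?_ hy
    rintro _ ⟨v, hv, rfl⟩
    rw [SetLike.mem_coe, LinearMap.mem_ker, hΦ, show π v = 0 from (Submodule.Quotient.mk_eq_zero _).2 hv,
      TensorProduct.tmul_zero]
  have hinj := Module.Flat.lTensor_preserves_injective_linearMap (M := B)
    (K.liftQ φ le_rfl) (LinearMap.ker_eq_bot.1 (Submodule.ker_liftQ_eq_bot _ _ _ le_rfl))
  have h2 : h ⊗ₜ[A] (Submodule.Quotient.mk (1 : A) : A ⧸ K) = 0 := by
    apply hinj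
    rw [LinearMap.lTensor_tmul, map_zero]
    refine Eq.trans ?_ h0
    congr 1
    exact one_smul A (π x)
  have h3 : h ∈ K.map (algebraMap A B) := by
    have h4 := congrArg (TensorProduct.tensorQuotEquivQuotSMul B K) h2
    rw [map_zero] at h4
    have h5 : TensorProduct.tensorQuotEquivQuotSMul B K (h ⊗ₜ[A] (Submodule.Quotient.mk (1 : A) : A ⧸ K)) =
        Submodule.Quotient.mk ((1 : A) • h) :=
      TensorProduct.quotTensorEquivQuotSMul_mk_tmul K (1 : A) h
    rw [h5, one_smul, Submodule.Quotient.mk_eq_zero, Ideal.smul_top_eq_map] at h4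
    exact h4
  obtain ⟨c, hc, hcP⟩ := Set.not_subset.1 (show ¬ (K : Set A) ⊆ P.comap (algebraMap A B) from
    fun hT => hh (Ideal.map_le_iff_le_comap.2 hT h3))
  refine ⟨c, hcP, ?_⟩
  rwa [← Submodule.Quotient.mk_eq_zero]

/-- `H_1`-exactness at a prime. -/
def H1AtPrime {n : ℕ} (f : Fin n → A) (q : Ideal A) : Prop :=
  ∀ a : Fin n → A, ∑ i, a i * f i = 0 → ∃ c, c ∉ q ∧ c • a ∈ Triv f

theorem H1AtPrime.minimalAt {n : ℕ} {f : Fin n → A} {q : Ideal A} [hq : q.IsPrime]
    (h : H1AtPrime f q) (hf : Ideal.span (Set.range f) ≤ q) : MinimalAt f q := by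
  intro a ha i
  obtain ⟨c, hc, hca⟩ := h a ha
  have := hf (Triv_le f _ hca i)
  exact (hq.mem_or_mem this).resolve_left hc

variable [Algebra A B] [Module.Flat A B]

/-- `H_1`-regularity near a prime upstairs. -/
def NearH1 {n : ℕ} (f : Fin n → A) (P : Ideal B) : Prop :=
  ∃ h : B, h ∉ P ∧ CAlgX.IsH1Regular (fun i => algebraMap B (Localization.Away h) (algebraMap A B (f i)))

omit [Module.Flat A B] in
theorem Triv_map {n : ℕ} (f : Fin n → A) (v : Fin n → A) (hv : v ∈ Triv f) :
    (fun i => algebraMap A B (v i)) ∈ Triv (fun i => algebraMap A B (f i)) := by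
  induction hv using Submodule.span_induction with
  | mem v hv =>
    obtain ⟨i, j, rfl⟩ := hv
    refine Submodule.subset_span ⟨i, j, funext fun m => ?_⟩
    simp only [Pi.sub_apply, map_sub, Pi.single_apply, apply_ite (algebraMap A B), map_zero]
  | zero => simp only [Pi.zero_apply, map_zero]; exact zero_mem _
  | add v w _ _ hv hw =>
    simp only [Pi.add_apply, map_add]
    exact add_mem hv hw
  | smul c v _ hv =>
    simp only [Pi.smul_apply, smul_eq_mul, map_mul]
    exact Submodule.smul_mem _ (algebraMap A B c) hv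

theorem NearH1.h1AtPrime {n : ℕ} {f : Fin n → A} {P : Ideal B} [hP : P.IsPrime] (hf : NearH1 f P) :
    H1AtPrime f (P.comap (algebraMap A B)) := by
  classical
  obtain ⟨h, hh, hex⟩ := hf
  intro a ha
  let R := Localization.Away h
  let σ := algebraMap B R
  have h0 : ∑ i, σ (algebraMap A B (a i)) * σ (algebraMap A B (f i)) = 0 := by
    simp only [← map_mul, ← map_sum, ha, map_zero]
  have h1 := hex _ h0
  -- clear denominators
  have key : ∀ v ∈ Triv (fun i => σ (algebraMap A B (f i))), ∃ (N : ℕ) (w : Fin n → B),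
      w ∈ Triv (fun i => algebraMap A B (f i)) ∧ ∀ i, σ (w i) = σ h ^ N * v i := by
    intro v hv
    induction hv using Submodule.span_induction with
    | mem v hv =>
      obtain ⟨i, j, rfl⟩ := hv
      refine ⟨0, _, Submodule.subset_span ⟨i, j, rfl⟩, fun m => ?_⟩
      simp only [Pi.sub_apply, map_sub, Pi.single_apply, apply_ite σ, map_zero, pow_zero, one_mul]
    | zero => exact ⟨0, 0, zero_mem _, fun i => by simp⟩
    | add v v' _ _ hv hv' =>
      obtain ⟨N, w, hw, e⟩ := hv
      obtain ⟨N', w', hw', e'⟩ := hv'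
      refine ⟨N + N', h ^ N' • w + h ^ N • w', add_mem (Submodule.smul_mem _ _ hw) (Submodule.smul_mem _ _ hw'),
        fun i => ?_⟩
      simp only [Pi.add_apply, Pi.smul_apply, smul_eq_mul, map_add, map_mul, map_pow, e, e', pow_add]
      ring
    | smul r v _ hv =>
      obtain ⟨N, w, hw, e⟩ := hv
      obtain ⟨⟨b, ⟨_, l, rfl⟩⟩, hb⟩ := IsLocalization.surj (Submonoid.powers h) r
      refine ⟨N + l, b • w, Submodule.smul_mem _ _ hw, fun i => ?_⟩
      simp only [Pi.smul_apply, smul_eq_mul, map_mul, e, pow_add]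
      rw [← hb, map_pow]
      ring
  obtain ⟨N, w, hw, e⟩ := key _ h1
  have hN : ∀ i, σ (w i) = σ (h ^ N * algebraMap A B (a i)) := fun i => by rw [e, map_mul, map_pow]
  have hM : ∀ i, ∃ M : ℕ, h ^ M * w i = h ^ M * (h ^ N * algebraMap A B (a i)) := fun i => by
    obtain ⟨⟨_, M, rfl⟩, hM⟩ := (IsLocalization.eq_iff_exists (Submonoid.powers h) R).1 (hN i)
    exact ⟨M, hM⟩
  choose M hM using hM
  let M₀ := Finset.univ.sup M
  have hfin : (h ^ (M₀ + N)) • (fun i => algebraMap A B (a i)) = h ^ M₀ • w := by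
    funext i
    simp only [Pi.smul_apply, smul_eq_mul]
    have hh' : h ^ M₀ = h ^ (M₀ - M i) * h ^ M i := by
      rw [← pow_add, Nat.sub_add_cancel (Finset.le_sup (Finset.mem_univ i))]
    rw [pow_add, hh', mul_assoc, mul_assoc, mul_assoc, hM i]
  refine exists_smul_mem (Triv f) P a (h ^ (M₀ + N)) (fun hm => hh (hP.mem_of_pow_mem _ hm)) ?_
  rw [hfin]
  refine Submodule.smul_mem _ _ ((Submodule.span_le (R := B)).2 ?_ hw)
  rintro _ ⟨i, j, rfl⟩
  refine Submodule.subset_span ⟨Pi.single i (f j) - Pi.single j (f i), Submodule.subset_span ⟨i, j, rfl⟩, ?_⟩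
  funext m
  simp only [Pi.sub_apply, map_sub, Pi.single_apply, apply_ite (algebraMap A B), map_zero]

omit [Module.Flat A B] in
theorem nearH1_of_notMem {n : ℕ} (f : Fin n → A) (P : Ideal B) (i : Fin n)
    (hi : algebraMap A B (f i) ∉ P) : NearH1 f P := by
  refine ⟨algebraMap A B (f i), hi, isH1Regular_of_isExactK (isExactK_of_one_mem _ ?_)⟩
  rw [← Ideal.eq_top_iff_one]
  exact Ideal.eq_top_of_isUnit_mem _ (Ideal.subset_span ⟨i, rfl⟩)
    (IsLocalization.Away.algebraMap_isUnit _)

theorem nearH1_of_minimalAt {n : ℕ} (f : Fin n → A)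
    (hB : LocK .h1 ((Ideal.span (Set.range f)).map (algebraMap A B))) (P : Ideal B) [hP : P.IsPrime]
    (hmin : MinimalAt f (P.comap (algebraMap A B))) : NearH1 f P := by
  classical
  by_cases hall : ∀ i, algebraMap A B (f i) ∈ P
  swap
  · push Not at hall
    obtain ⟨i, hi⟩ := hall
    exact nearH1_of_notMem f P i hi
  have hIP : (Ideal.span (Set.range f)).map (algebraMap A B) ≤ P := by
    rw [Ideal.map_le_iff_le_comap, Ideal.span_le]
    rintro _ ⟨i, rfl⟩
    exact hall i
  obtain ⟨g, hg, rs, hrs, hFI⟩ := hB P hP hIP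
  let L := Localization.Away g
  obtain ⟨r, F, hF, hFI⟩ : ∃ (r : ℕ) (F : Fin r → L), CAlgX.IsH1Regular F ∧
      Ideal.span (Set.range F) = ((Ideal.span (Set.range f)).map (algebraMap A B)).map (algebraMap B L) :=
    ⟨rs.length, rs.get, hrs, by rw [hFI, ← CILib.ofList_ofFn, List.ofFn_get]⟩
  let P' := P.map (algebraMap B L)
  have hdisj : Disjoint (Submonoid.powers g : Set B) P := by
    rw [Set.disjoint_left]
    rintro _ ⟨j, rfl⟩ hj
    exact hg (hP.mem_of_pow_mem j hj)
  haveI hP' : P'.IsPrime :=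
    IsLocalization.isPrime_of_isPrime_disjoint (Submonoid.powers g) L P hP hdisj
  have hcomap : P'.comap (algebraMap B L) = P :=
    IsLocalization.comap_map_of_isPrime_disjoint (Submonoid.powers g) L hP hdisj
  haveI : Module.Flat A L := Module.Flat.trans A B L
  let a : Fin n → L := fun i => algebraMap A L (f i)
  have ha : Ideal.span (Set.range a) = Ideal.span (Set.range F) := by
    rw [hFI, Ideal.map_map, ← IsScalarTower.algebraMap_eq, Ideal.map_span, ← Set.range_comp]
    rfl
  choose c hc using fun i : Fin n => Ideal.mem_span_range_iff_exists_fun.1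
    (ha.le (Ideal.subset_span ⟨i, rfl⟩) : a i ∈ _)
  choose d hd using fun i : Fin r => Ideal.mem_span_range_iff_exists_fun.1
    (ha.ge (Ideal.subset_span ⟨i, rfl⟩) : F i ∈ _)
  let cM : Matrix (Fin n) (Fin r) L := Matrix.of c
  let dM : Matrix (Fin r) (Fin n) L := Matrix.of d
  let ρ : L →+* L ⧸ P' := Ideal.Quotient.mk P'
  have hFP : Ideal.span (Set.range F) ≤ P' := by rw [hFI]; exact Ideal.map_mono hIP
  have hca : cM.mulVec F = a := funext fun i => hc i
  have hda : dM.mulVec a = F := funext fun i => hd i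
  have hdc : (dM * cM).map ρ = 1 := by
    ext i j
    have h1 : (dM * cM).mulVec F = F := by rw [← Matrix.mulVec_mulVec, hca, hda]
    have h2 := Triv_le F _ (hF (fun l => (dM * cM - 1 : Matrix (Fin r) (Fin r) L) i l) (by
      show ((dM * cM - 1 : Matrix (Fin r) (Fin r) L).mulVec F) i = 0
      rw [Matrix.sub_mulVec, h1, Matrix.one_mulVec, sub_self, Pi.zero_apply])) j
    have h3 : ρ ((dM * cM - 1 : Matrix (Fin r) (Fin r) L) i j) = 0 := Ideal.Quotient.eq_zero_iff_mem.2 (hFP h2)
    rw [Matrix.sub_apply, map_sub, sub_eq_zero] at h3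
    rw [Matrix.map_apply, h3, Matrix.one_apply, Matrix.one_apply]
    split_ifs <;> simp
  have hcd : (cM * dM).map ρ = 1 := by
    ext i j
    have h1 : (cM * dM).mulVec a = a := by rw [← Matrix.mulVec_mulVec, hda, hca]
    have h2 : ∑ l, f l • (cM * dM - 1 : Matrix (Fin n) (Fin n) L) i l = 0 := by
      have h3 : ((cM * dM - 1 : Matrix (Fin n) (Fin n) L).mulVec a) i = 0 := by
        rw [Matrix.sub_mulVec, h1, Matrix.one_mulVec, sub_self, Pi.zero_apply]
      rw [← h3]
      refine Finset.sum_congr rfl fun l _ => ?_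
      rw [Algebra.smul_def, mul_comm]
    obtain ⟨k, α, y, hy, hα⟩ := Module.Flat.isTrivialRelation_of_sum_smul_eq_zero (R := A) (M := L) h2
    have h4 : ρ ((cM * dM - 1 : Matrix (Fin n) (Fin n) L) i j) = 0 := by
      rw [hy j, map_sum]
      refine Finset.sum_eq_zero fun m _ => ?_
      rw [Algebra.smul_def, map_mul]
      have hα' : α j m ∈ P.comap (algebraMap A B) :=
        hmin (fun l => α l m) (by rw [← hα m]; exact Finset.sum_congr rfl fun l _ => mul_comm _ _) j
      rw [Ideal.Quotient.eq_zero_iff_mem.2, zero_mul]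
      rw [IsScalarTower.algebraMap_apply A B L]
      exact Ideal.mem_map_of_mem _ hα'
    rw [Matrix.sub_apply, map_sub, sub_eq_zero] at h4
    rw [Matrix.map_apply, h4, Matrix.one_apply, Matrix.one_apply]
    split_ifs <;> simp
  rw [Matrix.map_mul] at hdc hcd
  have hnr : n = r := by
    have h1 := (Matrix.toLin'OfInv hdc hcd).finrank_eq
    simpa using h1.symm
  subst hnr
  have hdet : ρ cM.det ≠ 0 := by
    rw [RingHom.map_det]
    intro h0
    have h1 := congrArg Matrix.det hdc
    rw [Matrix.det_mul, Matrix.det_one, show ((cM.map ρ).det) = 0 from h0, mul_zero] at h1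
    exact zero_ne_one h1
  obtain ⟨⟨h₀, ⟨_, kk, rfl⟩⟩, hh₀⟩ := IsLocalization.surj (Submonoid.powers g) cM.det
  have hh₀P : h₀ ∉ P := fun h1 => by
    have h2 : cM.det * algebraMap B L (g ^ kk) ∈ P' := hh₀ ▸ Ideal.mem_map_of_mem _ h1
    rcases hP'.mem_or_mem h2 with h3 | h3
    · exact hdet (Ideal.Quotient.eq_zero_iff_mem.2 h3)
    · exact hg (hP.mem_of_pow_mem _ (hcomap.le h3))
  refine ⟨g * h₀, fun h1 => (hP.mem_or_mem h1).elim hg hh₀P, ?_⟩
  let Q := Localization.Away (g * h₀)
  have hu : IsUnit (algebraMap B Q g) ∧ IsUnit (algebraMap B Q h₀) :=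
    IsUnit.mul_iff.1 (map_mul (algebraMap B Q) g h₀ ▸ IsLocalization.Away.algebraMap_isUnit (g * h₀))
  letI : Algebra L Q := (IsLocalization.Away.lift g hu.1).toAlgebra
  haveI : IsScalarTower B L Q :=
    IsScalarTower.of_algebraMap_eq fun x => (IsLocalization.Away.lift_eq g hu.1 x).symm
  haveI : Module.Flat L Q :=
    (Module.flat_iff_of_isLocalization L (Submonoid.powers g) Q).mpr inferInstance
  let τ := algebraMap L Q
  have hC' : IsUnit (cM.map τ).det := by
    have e : (cM.map τ).det = τ cM.det := (RingHom.map_det τ cM).symm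
    rw [e]
    have h1 : τ cM.det * τ (algebraMap B L (g ^ kk)) = τ (algebraMap B L h₀) := by
      rw [← map_mul]; exact congrArg τ hh₀
    have h2 : IsUnit (τ (algebraMap B L h₀)) := (IsScalarTower.algebraMap_apply B L Q h₀) ▸ hu.2
    exact isUnit_of_mul_isUnit_left (h1 ▸ h2)
  have hG : (cM.map τ).mulVec (fun i => τ (F i)) = fun i => τ (a i) := by
    funext i
    show ∑ j, τ (c i j) * τ (F j) = _
    rw [← hc i, map_sum]
    simp only [map_mul]
  have hGi : (cM.map τ)⁻¹.mulVec (fun i => τ (a i)) = fun i => τ (F i) := by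
    rw [← hG, Matrix.mulVec_mulVec, Matrix.nonsing_inv_mul _ hC', Matrix.one_mulVec]
  have hex : CAlgX.IsH1Regular (fun i => τ (a i)) :=
    isH1Regular_of_matrix (isH1Regular_map hF) (cM.map τ) (cM.map τ)⁻¹ hG hGi (Matrix.mul_nonsing_inv _ hC')
  convert hex using 2 with i
  show _ = algebraMap L Q (algebraMap A L (f i))
  rw [IsScalarTower.algebraMap_apply A B L, ← IsScalarTower.algebraMap_apply B L Q]

/-- The central descent statement for a globally generated ideal. -/
theorem exists_genK_h1_of_minimalAt (hsurj : Function.Surjective (PrimeSpectrum.comap (algebraMap A B)))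
    {n : ℕ} (f : Fin n → A) (hB : LocK .h1 ((Ideal.span (Set.range f)).map (algebraMap A B)))
    (p : Ideal A) [hp : p.IsPrime] (hmin : MinimalAt f p) :
    ∃ g, g ∉ p ∧ GenK .h1 ((Ideal.span (Set.range f)).map (algebraMap A (Localization.Away g))) := by
  classical
  let U : Set (PrimeSpectrum A) := {q | H1AtPrime f q.asIdeal}
  let W : Set (PrimeSpectrum B) := {P | NearH1 f P.asIdeal}
  have hW : IsOpen W := by
    rw [isOpen_iff_forall_mem_open]
    rintro P ⟨h, hh, hex⟩
    exact ⟨PrimeSpectrum.basicOpen h, fun P' hP' => ⟨h, hP', hex⟩,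
      (PrimeSpectrum.basicOpen h).isOpen, hh⟩
  have hWU : W = PrimeSpectrum.comap (algebraMap A B) ⁻¹' U := by
    ext P
    refine ⟨fun h => NearH1.h1AtPrime (hP := P.isPrime) h, fun h => ?_⟩
    by_cases hall : ∀ i, algebraMap A B (f i) ∈ P.asIdeal
    · refine @nearH1_of_minimalAt _ _ _ _ _ _ _ f hB P.asIdeal P.isPrime
        (H1AtPrime.minimalAt (hq := inferInstance) h ?_)
      rw [Ideal.span_le]
      rintro _ ⟨i, rfl⟩
      exact hall i
    · push Not at hall
      obtain ⟨i, hi⟩ := hall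
      exact nearH1_of_notMem f P.asIdeal i hi
  have hq := PrimeSpectrum.isQuotientMap_of_generalizingMap hsurj
    (RingHom.Flat.generalizingMap_comap ((RingHom.flat_algebraMap_iff).2 inferInstance))
  have hU : IsOpen U := hq.isOpen_preimage.1 (hWU ▸ hW)
  obtain ⟨P, hP⟩ := hsurj ⟨p, hp⟩
  have hpU : (⟨p, hp⟩ : PrimeSpectrum A) ∈ U := by
    rw [← hP]
    refine NearH1.h1AtPrime (hP := P.isPrime) (nearH1_of_minimalAt f hB P.asIdeal ?_)
    have e : P.asIdeal.comap (algebraMap A B) = p := congrArg PrimeSpectrum.asIdeal hP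
    rwa [e]
  obtain ⟨_, ⟨g, rfl⟩, hgp, hgU⟩ :=
    PrimeSpectrum.isTopologicalBasis_basic_opens.exists_subset_of_mem_open hpU hU
  refine ⟨g, hgp, ?_⟩
  let R := Localization.Away g
  let σ := algebraMap A R
  refine ⟨List.ofFn fun i => σ (f i),
    seq_congr_get _ _ (fun f => CAlgX.IsH1Regular f) (List.ofFn_get _).symm ?_,
    by rw [CILib.ofList_ofFn, Ideal.map_span, ← Set.range_comp]; rfl⟩
  intro x hx
  obtain ⟨⟨_, m, rfl⟩, hs⟩ := IsLocalization.exist_integer_multiples_of_finite (Submonoid.powers g) x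
  choose x₀ hx₀ using hs
  have hzero : σ (∑ i, x₀ i * f i) = 0 := by
    rw [map_sum]
    have : ∀ i, σ (x₀ i * f i) = σ (g ^ m) * (x i * σ (f i)) := fun i => by
      rw [map_mul, hx₀ i, Algebra.smul_def, mul_assoc]
    rw [Finset.sum_congr rfl fun i _ => this i, ← Finset.mul_sum, hx, mul_zero]
  obtain ⟨⟨_, l, rfl⟩, hl⟩ := (IsLocalization.map_eq_zero_iff (Submonoid.powers g) R _).1 hzero
  let x₁ : Fin n → A := g ^ l • x₀
  have hx₁ : ∑ i, x₁ i * f i = 0 := by
    rw [← hl, Finset.mul_sum]
    exact Finset.sum_congr rfl fun i _ => by simp [x₁, mul_assoc]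
  let T : Ideal A := (Triv f).comap (LinearMap.toSpanSingleton A (Fin n → A) x₁)
  have hgT : g ∈ T.radical := by
    rw [Ideal.radical_eq_sInf, Ideal.mem_sInf]
    rintro q ⟨hTq, hq'⟩
    by_contra hgq
    obtain ⟨c, hc, hcx⟩ := hgU (show (⟨q, hq'⟩ : PrimeSpectrum A) ∈ _ from hgq) x₁ hx₁
    exact hc (hTq hcx)
  obtain ⟨N, hN⟩ := hgT
  have h5 := Triv_map (B := R) f _ hN
  have hunit : IsUnit (σ (g ^ (N + l + m))) := IsLocalization.map_units R (⟨_, N + l + m, rfl⟩ : Submonoid.powers g)
  obtain ⟨u, hu⟩ := hunit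
  have h6 : (fun i => σ ((LinearMap.toSpanSingleton A (Fin n → A) x₁ (g ^ N)) i)) = (u : R) • x := by
    funext i
    rw [Pi.smul_apply, smul_eq_mul, hu]
    simp only [LinearMap.toSpanSingleton_apply, x₁, Pi.smul_apply, smul_eq_mul, map_mul, map_pow, pow_add]
    rw [show σ (x₀ i) = σ g ^ m * x i by rw [← map_pow, hx₀ i, Algebra.smul_def]]
    ring
  rw [h6] at h5
  have := Submodule.smul_mem (Triv fun i => σ (f i)) (↑u⁻¹ : R) h5
  rwa [smul_smul, Units.inv_mul, one_smul] at this

/-- `H_1`-regularity descends along faithfully flat ring maps. -/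
theorem LocK.h1_of_faithfullyFlat {A B : Type u} [CommRing A] [CommRing B] [Algebra A B]
    [Module.FaithfullyFlat A B] {I : Ideal A} (h : LocK .h1 (I.map (algebraMap A B))) : LocK .h1 I := by
  classical
  have hk : RegImm.Kind.h1 ≠ RegImm.Kind.regular := nofun
  intro p hp hIp
  obtain ⟨g, hg, n, f, hfI, hfg, hmin⟩ := exists_minimalAt (KRLib.fg_of_map_fg I (h.fg rfl)) p
  let A' := Localization.Away g
  let B' := Localization.Away (algebraMap A B g)
  haveI : Module.Flat A B' := Module.Flat.trans A B B'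
  have hgu : IsUnit (algebraMap A B' g) := by
    rw [IsScalarTower.algebraMap_apply A B B']; exact IsLocalization.Away.algebraMap_isUnit _
  letI : Algebra A' B' := (IsLocalization.Away.lift g hgu).toAlgebra
  haveI : IsScalarTower A A' B' :=
    IsScalarTower.of_algebraMap_eq fun x => (IsLocalization.Away.lift_eq g hgu x).symm
  haveI : Module.Flat A' B' :=
    (Module.flat_iff_of_isLocalization A' (Submonoid.powers g) B').mpr inferInstance
  have hsurj : Function.Surjective (PrimeSpectrum.comap (algebraMap A' B')) := by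
    intro q
    let q₀ := PrimeSpectrum.comap (algebraMap A A') q
    obtain ⟨P₀, hP₀⟩ := PrimeSpectrum.comap_surjective_of_faithfullyFlat (B := B) q₀
    have hgP : algebraMap A B g ∉ P₀.asIdeal := fun h1 => by
      have h2 : g ∈ q₀.asIdeal := hP₀ ▸ h1
      exact q.isPrime.ne_top (Ideal.eq_top_of_isUnit_mem _ h2 (IsLocalization.Away.algebraMap_isUnit g))
    have hdisj : Disjoint (Submonoid.powers (algebraMap A B g) : Set B) P₀.asIdeal := by
      rw [Set.disjoint_left]
      rintro _ ⟨j, rfl⟩ hj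
      exact hgP (P₀.isPrime.mem_of_pow_mem j hj)
    refine ⟨⟨P₀.asIdeal.map (algebraMap B B'),
      IsLocalization.isPrime_of_isPrime_disjoint (Submonoid.powers (algebraMap A B g)) B' _
        P₀.isPrime hdisj⟩, ?_⟩
    refine PrimeSpectrum.localization_comap_injective A' (Submonoid.powers g) ?_
    change _ = q₀
    rw [← hP₀]
    ext1
    simp only [PrimeSpectrum.comap_asIdeal, Ideal.comap_comap]
    rw [← IsScalarTower.algebraMap_eq, IsScalarTower.algebraMap_eq A B B', ← Ideal.comap_comap]
    exact congrArg (Ideal.comap (algebraMap A B))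
      (IsLocalization.comap_map_of_isPrime_disjoint (Submonoid.powers (algebraMap A B g)) B'
        P₀.isPrime hdisj)
  let f' : Fin n → A' := fun i => algebraMap A A' (f i)
  have hI' : Ideal.span (Set.range f') = I.map (algebraMap A A') := by
    rw [← hfg, Ideal.map_span, ← Set.range_comp]
    rfl
  have hB' : LocK .h1 ((Ideal.span (Set.range f')).map (algebraMap A' B')) := by
    rw [hI', Ideal.map_map, ← IsScalarTower.algebraMap_eq, IsScalarTower.algebraMap_eq A B B',
      ← Ideal.map_map]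
    exact h.map_flat hk
  have hdisjA : Disjoint (Submonoid.powers g : Set A) p := by
    rw [Set.disjoint_left]
    rintro _ ⟨j, rfl⟩ hj
    exact hg (hp.mem_of_pow_mem j hj)
  haveI : (p.map (algebraMap A A')).IsPrime :=
    IsLocalization.isPrime_of_isPrime_disjoint (Submonoid.powers g) A' p hp hdisjA
  have hmin' : MinimalAt f' (p.map (algebraMap A A')) := by
    intro c hc i
    obtain ⟨⟨s, hs⟩, hc₀⟩ := IsLocalization.exist_integer_multiples_of_finite (Submonoid.powers g) c
    choose c₀ hc₀ using hc₀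
    have h1 : algebraMap A A' (∑ j, c₀ j * f j) = algebraMap A A' 0 := by
      rw [map_sum, map_zero]
      have he : ∀ j, algebraMap A A' (c₀ j * f j) = algebraMap A A' s * (c j * f' j) := fun j => by
        rw [map_mul, hc₀ j, Algebra.smul_def, mul_assoc]
      rw [Finset.sum_congr rfl fun j _ => he j, ← Finset.mul_sum, hc, mul_zero]
    rw [IsLocalization.eq_iff_exists (Submonoid.powers g) A'] at h1
    obtain ⟨⟨_, N, rfl⟩, hN⟩ := h1
    have h2 : g ^ N * c₀ i ∈ p := hmin (fun j => g ^ N * c₀ j) (by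
      simp only [mul_zero] at hN
      rw [← hN, Finset.mul_sum]
      exact Finset.sum_congr rfl fun j _ => mul_assoc _ _ _) i
    have h3 : c₀ i ∈ p := (hp.mem_or_mem h2).resolve_left fun h4 => hg (hp.mem_of_pow_mem _ h4)
    have h4 : algebraMap A A' s * c i ∈ p.map (algebraMap A A') := by
      rw [← Algebra.smul_def, ← hc₀ i]; exact Ideal.mem_map_of_mem _ h3
    exact (Ideal.unit_mul_mem_iff_mem _ (IsLocalization.map_units A' (⟨s, hs⟩ : Submonoid.powers g))).1 h4
  obtain ⟨g', hg', hgen⟩ := exists_genK_h1_of_minimalAt hsurj f' hB' _ hmin'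
  rw [hI'] at hgen
  -- a regular neighbourhood inside `D(g)` is one in `Spec A`
  obtain ⟨⟨g₀, ⟨_, k, rfl⟩⟩, hg₀⟩ := IsLocalization.surj (Submonoid.powers g) g'
  have hg₀p : g₀ ∉ p := fun h1 => hg' (by
    have h2 : g' * algebraMap A A' (g ^ k) ∈ p.map (algebraMap A A') :=
      hg₀ ▸ Ideal.mem_map_of_mem _ h1
    exact (Ideal.mul_unit_mem_iff_mem _ ((IsLocalization.map_units A'
      (⟨g ^ k, k, rfl⟩ : Submonoid.powers g)))).1 h2)
  refine ⟨g * g₀, fun h1 => (hp.mem_or_mem h1).elim hg hg₀p, ?_⟩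
  let L := Localization.Away (g * g₀)
  have hun : IsUnit (algebraMap A L g) ∧ IsUnit (algebraMap A L g₀) :=
    IsUnit.mul_iff.1 (map_mul (algebraMap A L) g g₀ ▸ IsLocalization.Away.algebraMap_isUnit (g * g₀))
  letI : Algebra A' L := (IsLocalization.Away.lift g hun.1).toAlgebra
  haveI : IsScalarTower A A' L :=
    IsScalarTower.of_algebraMap_eq fun x => (IsLocalization.Away.lift_eq g hun.1 x).symm
  haveI : Module.Flat A' L :=
    (Module.flat_iff_of_isLocalization A' (Submonoid.powers g) L).mpr inferInstance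
  have h2 := GenK.map_of_isUnit (R := L) (g := g') hk (by
    have h3 : algebraMap A' L g' * algebraMap A' L (algebraMap A A' (g ^ k)) =
        algebraMap A' L (algebraMap A A' g₀) := by
      rw [← map_mul]; exact congrArg _ hg₀
    have h4 : IsUnit (algebraMap A' L (algebraMap A A' g₀)) :=
      (IsScalarTower.algebraMap_apply A A' L g₀) ▸ hun.2
    exact isUnit_of_mul_isUnit_left (h3 ▸ h4)) hgen
  rwa [Ideal.map_map, ← IsScalarTower.algebraMap_eq] at h2

/-- Descent for the three weaker kinds. -/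
theorem LocK.of_faithfullyFlat {A B : Type u} [CommRing A] [CommRing B] [Algebra A B]
    [Module.FaithfullyFlat A B] {k : RegImm.Kind} (hk : k ≠ .regular) {I : Ideal A}
    (h : LocK k (I.map (algebraMap A B))) : LocK k I := by
  cases k with
  | regular => exact absurd rfl hk
  | koszul =>
    exact (locK_koszul_iff I).2 ((KRLib.locKR_iff I).1 (KRLib.LocKR.of_faithfullyFlat
      ((KRLib.locKR_iff _).2 ((locK_koszul_iff _).1 h))))
  | h1 => exact LocK.h1_of_faithfullyFlat h
  | quasi => exact (locK_quasi_iff I).2 (PP16Lib.isLocallyQuasiRegular_of_faithfullyFlat I ((locK_quasi_iff _).1 h))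

/-- Descent along a jointly surjective flat family. -/
theorem LocK.of_jointly {k : RegImm.Kind} (hk : k ≠ .regular) {A : Type u} [CommRing A] {ι : Type u} [Finite ι]
    (D : ι → Type u) [∀ i, CommRing (D i)] [∀ i, Algebra A (D i)] [∀ i, Module.Flat A (D i)]
    (hsurj : ∀ p : PrimeSpectrum A, ∃ i, ∃ q : PrimeSpectrum (D i),
      PrimeSpectrum.comap (algebraMap A (D i)) q = p) {I : Ideal A}
    (h : ∀ i, LocK k (I.map (algebraMap A (D i)))) : LocK k I := by
  classical
  have := Fintype.ofFinite ι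
  let A' := ∀ i, D i
  haveI : Module.FaithfullyFlat A A' := KRLib.faithfullyFlat_pi D hsurj
  refine LocK.of_faithfullyFlat (B := A') hk (locK_of_cover hk fun p hp _ => ?_)
  let e : ι → A' := fun i => Pi.single i 1
  have hex : ∃ i, e i ∉ p := by
    by_contra! hc
    refine hp.ne_top ((Ideal.eq_top_iff_one _).2 ?_)
    rw [show (1 : A') = ∑ i, e i from (Finset.univ_sum_single (fun i => (1 : D i))).symm]
    exact Submodule.sum_mem _ fun i _ => hc i
  obtain ⟨i, hi⟩ := hex
  refine ⟨e i, hi, ?_⟩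
  letI : Algebra A' (D i) := (Pi.evalAlgHom A D i).toAlgebra
  haveI : IsLocalization.Away (e i) (D i) := by
    apply IsLocalization.away_of_isIdempotentElem
    · show Pi.single i 1 * Pi.single i 1 = Pi.single i (1 : D i)
      rw [← Pi.single_mul, mul_one]
    · apply RingHom.ker_evalRingHom
    · apply (Pi.evalRingHom D i).surjective
  let E : D i ≃ₐ[A'] Localization.Away (e i) :=
    IsLocalization.algEquiv (Submonoid.powers (e i)) _ _
  letI : Algebra (D i) (Localization.Away (e i)) := E.toRingEquiv.toRingHom.toAlgebra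
  haveI : Module.Flat (D i) (Localization.Away (e i)) := RingHom.Flat.of_bijective E.bijective
  have h2 := (h i).map_flat (R := Localization.Away (e i)) hk
  rw [Ideal.map_map] at h2 ⊢
  convert h2 using 2
  exact RingHom.ext fun x => (E.commutes _).symm

end RegImmKindLib
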