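import Groth.Agent.RegImmKindLib.Ring
import Groth.Agent.KRLib.ImmFlat
import Groth.Agent.PerfModLib.StalkMor
import Mathlib

/-!
# Regular immersions on locally Noetherian schemes, stalkwise
-/

set_option autoImplicit false
set_option linter.style.haveILetI false
set_option backward.isDefEq.respectTransparency.types false

noncomputable section

universe u

open CategoryTheory AlgebraicGeometry RingTheory.Sequence

namespace RegImmKindLib

/-- The stalk kernel of a closed immersion of affines. -/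
theorem ker_stalkMap {Z X : Scheme.{u}} (i : Z ⟶ X) {U : X.Opens} (hU : IsAffineOpen U) (hV : IsAffineOpen (i ⁻¹ᵁ U))
    (hs : Function.Surjective (i.app U)) (z : Z) (hz : i z ∈ U) :
    letI := X.presheaf.algebra_section_stalk (⟨i z, hz⟩ : U)
    RingHom.ker (i.stalkMap z).hom = (RingHom.ker (i.app U).hom).map (algebraMap Γ(X, U) (X.presheaf.stalk (i z))) ∧
      RingHom.ker (i.app U).hom ≤ (hU.primeIdealOf ⟨i z, hz⟩).asIdeal := by
  let q := hV.primeIdealOf ⟨z, hz⟩
  let p := hU.primeIdealOf ⟨i z, hz⟩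
  have hpq : q.asIdeal.comap (i.app U).hom = p.asIdeal := by
    have := IsAffineOpen.comap_primeIdealOf_appLE (f := i) U hU (i ⁻¹ᵁ U) hV le_rfl hz
    rw [Scheme.Hom.app_eq_appLE]
    exact congr($(this).1)
  letI := X.presheaf.algebra_section_stalk (⟨i z, hz⟩ : U)
  letI := Z.presheaf.algebra_section_stalk (⟨z, hz⟩ : ↥(i ⁻¹ᵁ U))
  haveI : IsLocalization.AtPrime (X.presheaf.stalk (i z)) p.asIdeal := hU.isLocalization_stalk ⟨i z, hz⟩
  haveI : IsLocalization.AtPrime (Z.presheaf.stalk z) q.asIdeal := hV.isLocalization_stalk ⟨z, hz⟩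
  have hT : Submonoid.map (i.app U).hom p.asIdeal.primeCompl = q.asIdeal.primeCompl := by
    ext b
    constructor
    · rintro ⟨a, ha, rfl⟩
      exact fun hb => ha (hpq ▸ hb)
    · intro hb
      obtain ⟨a, rfl⟩ := hs b
      exact ⟨a, fun ha => hb (show a ∈ q.asIdeal.comap (i.app U).hom from hpq ▸ ha), rfl⟩
  have hsm : (i.stalkMap z).hom = IsLocalization.map (Z.presheaf.stalk z) (i.app U).hom
      (M := p.asIdeal.primeCompl) (T := q.asIdeal.primeCompl)
      (show p.asIdeal.primeCompl ≤ q.asIdeal.primeCompl.comap (i.app U).hom from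
        hT ▸ Submonoid.le_comap_map _) := by
    refine IsLocalization.ringHom_ext p.asIdeal.primeCompl ?_
    rw [IsLocalization.map_comp]
    exact congrArg CommRingCat.Hom.hom (i.germ_stalkMap U z hz)
  refine ⟨by rw [hsm, IsLocalization.ker_map _ _ hT], ?_⟩
  rw [← hpq]
  exact fun a ha => by
    rw [Ideal.mem_comap, show (i.app U).hom a = 0 from ha]
    exact zero_mem _

/-- On a locally Noetherian scheme, each kind is detected by the kernel on the stalk. -/
theorem isRegularImmersionAt_iff {Z X : Scheme.{u}} (i : Z ⟶ X) [IsImmersion i] [IsLocallyNoetherian X]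
    (k : RegImm.Kind) (z : Z) : RegImm.IsRegularImmersionAt k i z ↔
      ∃ rs : List (X.presheaf.stalk (i z)), IsRegular (X.presheaf.stalk (i z)) rs ∧
        RingHom.ker (i.stalkMap z).hom = Ideal.ofList rs := by
  constructor
  · rintro ⟨⟨U, hU⟩, hzU, hcl, rs, hrs, hker⟩
    obtain ⟨hV, hs⟩ := (KRLib.isClosedImmersion_restrict_iff i hU).1 hcl
    haveI : IsNoetherianRing Γ(X, U) := IsLocallyNoetherian.component_noetherian ⟨U, hU⟩
    letI := X.presheaf.algebra_section_stalk (⟨i z, hzU⟩ : U)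
    haveI : IsLocalization.AtPrime (X.presheaf.stalk (i z)) (hU.primeIdealOf ⟨i z, hzU⟩).asIdeal :=
      hU.isLocalization_stalk ⟨i z, hzU⟩
    obtain ⟨hk1, hk2⟩ := ker_stalkMap i hU hV hs z hzU
    refine ⟨rs.map (algebraMap Γ(X, U) (X.presheaf.stalk (i z))),
      isRegular_of_seq k (hU.primeIdealOf ⟨i z, hzU⟩).asIdeal rs (fun r hr => hk2 ?_) hrs _, ?_⟩
    · rw [hker]
      exact Ideal.subset_span hr
    · rw [hk1, hker, Ideal.map_ofList]
  · rintro ⟨rs, hrs, hker⟩
    obtain ⟨U, hU, hzU, hle⟩ := exists_isAffineOpen_mem_and_subset (x := i z) (U := i.coborderRange)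
      (subset_coborder ⟨z, rfl⟩)
    obtain ⟨hV, hs⟩ := KRLib.data_of_le_coborderRange (i := i) hU hle
    haveI : IsNoetherianRing Γ(X, U) := IsLocallyNoetherian.component_noetherian ⟨U, hU⟩
    letI := X.presheaf.algebra_section_stalk (⟨i z, hzU⟩ : U)
    let p := (hU.primeIdealOf ⟨i z, hzU⟩).asIdeal
    haveI : IsLocalization.AtPrime (X.presheaf.stalk (i z)) p := hU.isLocalization_stalk ⟨i z, hzU⟩
    obtain ⟨hk1, hk2⟩ := ker_stalkMap i hU hV hs z hzU
    obtain ⟨g, hg, hg'⟩ := exists_away_seq k p (RingHom.ker (i.app U).hom) hk2 (X.presheaf.stalk (i z)) rs hrs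
      (hker.symm.trans hk1)
    obtain ⟨h1, h2, h3⟩ := KRLib.basicOpen_data i hU hV hs g
    letI : Algebra Γ(X, U) Γ(X, X.basicOpen g) :=
      (X.presheaf.map (homOfLE (X.basicOpen_le g)).op).hom.toAlgebra
    haveI : IsLocalization.Away g Γ(X, X.basicOpen g) := hU.isLocalization_basicOpen g
    obtain ⟨rs', hrs', hI⟩ := hg' Γ(X, X.basicOpen g)
    refine ⟨⟨X.basicOpen g, hU.basicOpen g⟩, ?_,
      (KRLib.isClosedImmersion_restrict_iff i (hU.basicOpen g)).2 ⟨h1, h2⟩, rs', hrs', h3.trans hI.symm⟩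
    show i z ∈ X.basicOpen g
    rw [show i z = hU.fromSpec (hU.primeIdealOf ⟨i z, hzU⟩) from (hU.fromSpec_primeIdealOf ⟨i z, hzU⟩).symm]
    show hU.primeIdealOf ⟨i z, hzU⟩ ∈ hU.fromSpec ⁻¹ᵁ X.basicOpen g
    rw [hU.fromSpec_preimage_basicOpen g]
    exact hg

/-- Factorisation of regular immersions through a perfect immersion. -/
theorem regular_factor {Z Y X : Scheme.{u}} (i : Z ⟶ Y) (j : Y ⟶ X) [IsImmersion i] [IsImmersion j]
    [IsLocallyNoetherian X] (k : RegImm.Kind) (h : RegImm.IsRegularImmersion k (i ≫ j))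
    (hi : MoreMor.IsPerfectMor i) :
    RegImm.IsRegularImmersion k i ∧ ∀ z : Z, RegImm.IsRegularImmersionAt k j (i z) := by
  haveI : IsImmersion (i ≫ j) := h.1
  haveI : IsLocallyNoetherian Y := LocallyOfFiniteType.isLocallyNoetherian j
  have hstalk := (PerfModLib.perfectMor_iff_stalks i (fun U V hU hV e => (hi U V hU hV e).1)).1 hi
  have key : ∀ z : Z, RegImm.IsRegularImmersionAt k i z ∧ RegImm.IsRegularImmersionAt k j (i z) := by
    intro z
    rw [isRegularImmersionAt_iff i k z, isRegularImmersionAt_iff j k (i z)]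
    obtain ⟨rs, hrs, hker⟩ := (isRegularImmersionAt_iff (i ≫ j) k z).1 (h.2 z)
    rw [Scheme.Hom.stalkMap_comp] at hker
    letI : Algebra (X.presheaf.stalk (j (i z))) (Y.presheaf.stalk (i z)) := (j.stalkMap (i z)).hom.toAlgebra
    letI : Algebra (Y.presheaf.stalk (i z)) (Z.presheaf.stalk z) := (i.stalkMap z).hom.toAlgebra
    exact (exists_regular_ker_of_comp (A := X.presheaf.stalk (j (i z))) (j.stalkMap_surjective (i z))
      (i.stalkMap_surjective z) (hstalk z) ⟨rs, hrs, hker⟩).symm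
  exact ⟨⟨inferInstance, fun z => (key z).1⟩, fun z => (key z).2⟩

end RegImmKindLib
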