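import Groth.Agent.RegImmKindLib.Mor
import Groth.Agent.CMFlatLib.Basic
import Groth.Agent.CMFlatLib.Open
import Mathlib

/-!
# Regular immersions into Cohen-Macaulay schemes
-/

set_option autoImplicit false
set_option linter.style.haveILetI false
set_option backward.isDefEq.respectTransparency.types false

noncomputable section

universe u

open RingTheory.Sequence IsLocalRing CommAlgDim AlgebraicGeometry CategoryTheory

namespace RegImmKindLib

/-- A quotient of a Cohen-Macaulay local ring by a regular sequence is Cohen-Macaulay. -/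
theorem isCM_quotient_ofList : ∀ (n : ℕ) (R : Type u) [CommRing R] [IsLocalRing R] [IsNoetherianRing R]
    (rs : List R), rs.length = n → IsWeaklyRegular R rs → (∀ r ∈ rs, r ∈ maximalIdeal R) → IsCM R →
    ∀ [IsLocalRing (R ⧸ Ideal.ofList rs)], IsCM (R ⧸ Ideal.ofList rs) := by
  intro n
  induction n with
  | zero =>
    intro R _ _ _ rs hl _ _ hR _
    obtain rfl := List.length_eq_zero_iff.1 hl
    exact CatLib.isCM_of_ringEquiv ((RingEquiv.quotientBot R).symm.trans (Ideal.quotEquivOfEq (by simp))) hR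
  | succ n ih =>
    intro R _ _ _ rs hl hreg hm hR _
    obtain ⟨r, rs, rfl⟩ := List.exists_cons_of_length_eq_add_one hl
    rw [GorLib.isWeaklyRegular_cons_ring] at hreg
    obtain ⟨hr, hrs⟩ := hreg
    have hrm : r ∈ maximalIdeal R := hm r (List.mem_cons_self ..)
    haveI : Nontrivial (R ⧸ Ideal.span {r}) := Ideal.Quotient.nontrivial_iff.2
      (ne_top_of_le_ne_top (Ideal.IsMaximal.ne_top inferInstance) ((Ideal.span_singleton_le_iff_mem _).2 hrm))
    haveI : IsLocalRing (R ⧸ Ideal.span {r}) :=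
      IsLocalRing.of_surjective' (Ideal.Quotient.mk _) Ideal.Quotient.mk_surjective
    have hm' : ∀ x ∈ rs.map (Ideal.Quotient.mk (Ideal.span {r})), x ∈ maximalIdeal (R ⧸ Ideal.span {r}) := fun x hx => by
      obtain ⟨y, hy, rfl⟩ := List.mem_map.1 hx
      rw [← IsLocalRing.map_maximalIdeal_of_surjective (Ideal.Quotient.mk (Ideal.span {r})) Ideal.Quotient.mk_surjective]
      exact Ideal.mem_map_of_mem _ (hm y (List.mem_cons_of_mem _ hy))
    let e := (Ideal.quotEquivOfEq (R := R ⧸ Ideal.span {r})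
      (show Ideal.ofList (rs.map (Ideal.Quotient.mk (Ideal.span {r}))) =
        (Ideal.ofList rs).map (Ideal.Quotient.mk (Ideal.span {r})) by rw [Ideal.map_ofList])).trans
      ((DoubleQuot.quotQuotEquivQuotSup (Ideal.span {r}) (Ideal.ofList rs)).trans
        (Ideal.quotEquivOfEq (show Ideal.span {r} ⊔ Ideal.ofList rs = Ideal.ofList (r :: rs) by rw [Ideal.ofList_cons])))
    haveI : IsLocalRing ((R ⧸ Ideal.span {r}) ⧸ Ideal.ofList (rs.map (Ideal.Quotient.mk (Ideal.span {r})))) :=
      e.symm.isLocalRing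
    exact CatLib.isCM_of_ringEquiv e
      (ih (R ⧸ Ideal.span {r}) _ (by simpa using hl) hrs hm' (hR.quotient_singleton hr hrm))

/-- No embedded points on a regularly immersed subscheme of a Cohen-Macaulay scheme. -/
theorem dim_eq_zero_of_assoc {X Z : Scheme.{u}} [IsLocallyNoetherian X]
    (hCM : ∀ x : X, LocCoh.IsCohenMacaulayLocalRing (X.presheaf.stalk x))
    (i : Z ⟶ X) [IsClosedImmersion i] (hi : RegImm.IsRegularImmersion RegImm.Kind.regular i) (z : Z)
    (hz : IsAssociatedPrime (IsLocalRing.maximalIdeal (Z.presheaf.stalk z)) (Z.presheaf.stalk z)) :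
    ringKrullDim (Z.presheaf.stalk z) = 0 := by
  haveI : IsLocallyNoetherian Z := LocallyOfFiniteType.isLocallyNoetherian i
  obtain ⟨rs, hrs, hker⟩ := (isRegularImmersionAt_iff i .regular z).1 (hi.2 z)
  let e : (X.presheaf.stalk (i z) ⧸ Ideal.ofList rs) ≃+* Z.presheaf.stalk z :=
    (Ideal.quotEquivOfEq hker.symm).trans (RingHom.quotientKerEquivOfSurjective (i.stalkMap_surjective z))
  haveI : IsLocalRing (X.presheaf.stalk (i z) ⧸ Ideal.ofList rs) := e.symm.isLocalRing
  have hcm : IsCM (X.presheaf.stalk (i z) ⧸ Ideal.ofList rs) := isCM_quotient_ofList _ _ rs rfl hrs.toIsWeaklyRegular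
    (CommAlgDim.mem_maximalIdeal_of_isRegular hrs) ((CMFlatLib.isCohenMacaulayLocalRing_iff_isCM _).1 (hCM (i z)))
  exact (CMFlatLib.isCM_iff_of_depth_zero hz).1 (CatLib.isCM_of_ringEquiv e hcm)

end RegImmKindLib
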