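import Groth.Agent.RegImmKindLib.Mor
import Groth.Agent.CIRingLib.Localization
import Groth.Agent.TransLib.RegPres
import Mathlib

/-!
# Local presentations of regularly immersed affine schemes by regular sequences
-/

set_option autoImplicit false
set_option linter.style.haveILetI false
set_option backward.isDefEq.respectTransparency.types false

noncomputable section

universe u

open CategoryTheory AlgebraicGeometry RingTheory.Sequence

namespace RegImmKindLib

theorem exists_local_regular {R : Type u} [CommRing R] [IsNoetherianRing R] (I : Ideal R) (k : RegImm.Kind)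
    (h : RegImm.IsRegularImmersion k (Spec.map (CommRingCat.ofHom (Ideal.Quotient.mk I))))
    (q : PrimeSpectrum (R ⧸ I)) :
    ∃ rs : List (Localization.AtPrime (q.asIdeal.comap (Ideal.Quotient.mk I))),
      IsRegular (Localization.AtPrime (q.asIdeal.comap (Ideal.Quotient.mk I))) rs ∧
      Ideal.ofList rs = I.map (algebraMap R (Localization.AtPrime (q.asIdeal.comap (Ideal.Quotient.mk I)))) := by
  let f : CommRingCat.of R ⟶ CommRingCat.of (R ⧸ I) := CommRingCat.ofHom (Ideal.Quotient.mk I)
  haveI : IsClosedImmersion (Spec.map f) := IsClosedImmersion.spec_of_surjective _ Ideal.Quotient.mk_surjective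
  obtain ⟨rs, hrs, hker⟩ := (isRegularImmersionAt_iff (Spec.map f) k q).1 (h.2 q)
  let e := (Spec.stalkIso (CommRingCat.of R) (q.comap f.hom)).commRingCatIsoToRingEquiv
  let φ := Localization.localRingHom (q.asIdeal.comap (Ideal.Quotient.mk I)) q.asIdeal (Ideal.Quotient.mk I) rfl
  have hk : RingHom.ker ((Spec.map f).stalkMap q).hom = (RingHom.ker φ).comap e.toRingHom := by
    ext a
    rw [RingHom.mem_ker, ← Scheme.localRingHom_comp_stalkIso f q]
    show _ ↔ φ (e a) = 0
    exact map_eq_zero_iff (Spec.stalkIso (CommRingCat.of (R ⧸ I)) q).inv.hom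
      (ConcreteCategory.bijective_of_isIso (Spec.stalkIso (CommRingCat.of (R ⧸ I)) q).inv).1
  refine ⟨rs.map e.toRingHom, TransLib.isRegular_of_ringEquiv e hrs, ?_⟩
  refine (Ideal.map_ofList e.toRingHom rs).symm.trans ?_
  refine ((congrArg (Ideal.map e.toRingHom) (hker.symm.trans hk)).trans
    (Ideal.map_comap_of_surjective e.toRingHom e.surjective (RingHom.ker φ))).trans ?_
  exact (CIRingLib.ker_localRingHom _ Ideal.Quotient.mk_surjective q.asIdeal).trans (by rw [Ideal.mk_ker])

theorem exists_regular_presentation {A : Type u} [CommRing A] [IsNoetherianRing A] {n : ℕ}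
    (I : Ideal (MvPolynomial (Fin n) A))
    (h : RegImm.IsRegularImmersion RegImm.Kind.regular (Spec.map (CommRingCat.ofHom (Ideal.Quotient.mk I))))
    (q : PrimeSpectrum (MvPolynomial (Fin n) A ⧸ I)) :
    ∃ g : MvPolynomial (Fin n) A ⧸ I, g ∉ q.asIdeal ∧
      ∃ (d : ℕ) (P : Fin d → MvPolynomial (Fin (n + 1)) A),
        IsRegular (MvPolynomial (Fin (n + 1)) A) (List.ofFn P) ∧
        Nonempty (Localization.Away g ≃ₐ[A] (MvPolynomial (Fin (n + 1)) A ⧸ Ideal.ofList (List.ofFn P))) := by
  let R := MvPolynomial (Fin n) A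
  let π : R →+* R ⧸ I := Ideal.Quotient.mk I
  obtain ⟨rs, hrs, hI⟩ := exists_local_regular I .regular h q
  have hle : I ≤ q.asIdeal.comap π := fun b hb => by
    show π b ∈ q.asIdeal
    rw [show π b = 0 from Ideal.Quotient.eq_zero_iff_mem.2 hb]
    exact zero_mem _
  obtain ⟨g₀, hg₀, hg'⟩ := exists_away_seq .regular (q.asIdeal.comap π) I hle _ rs hrs hI
  obtain ⟨rs', hrs', hI'⟩ := hg' (Localization.Away g₀)
  obtain ⟨Ψ, hΨ, hker, hren⟩ := TransLib.exists_awayMap g₀
  obtain ⟨ls, rfl⟩ : ∃ ls : List (MvPolynomial (Fin (n + 1)) A), ls.map Ψ = rs' := List.map_surjective_iff.2 hΨ rs'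
  let B' := Localization.Away (π g₀)
  let θ : Localization.Away g₀ →ₐ[A] B' :=
    { IsLocalization.Away.map (Localization.Away g₀) B' π g₀ with
      commutes' := fun a => by
        show IsLocalization.Away.map (Localization.Away g₀) B' π g₀ (algebraMap A (Localization.Away g₀) a) = _
        rw [IsScalarTower.algebraMap_apply A R (Localization.Away g₀), IsScalarTower.algebraMap_apply A (R ⧸ I) B',
          IsLocalization.Away.map, IsLocalization.map_eq]
        rfl }
  let ρ : MvPolynomial (Fin (n + 1)) A →ₐ[A] B' := θ.comp Ψ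
  have hρ : Function.Surjective ρ :=
    (KRLib.awayMap_surjective π g₀ (Localization.Away g₀) B' Ideal.Quotient.mk_surjective).comp hΨ
  let L := TransLib.awayEqn g₀ :: ls
  have hkρ : RingHom.ker ρ.toRingHom = Ideal.ofList L := by
    have h1 : RingHom.ker θ.toRingHom = I.map (algebraMap R (Localization.Away g₀)) := by
      rw [show θ.toRingHom = IsLocalization.Away.map (Localization.Away g₀) B' π g₀ from rfl, KRLib.ker_awayMap,
        Ideal.mk_ker]
    rw [show ρ.toRingHom = θ.toRingHom.comp Ψ.toRingHom from rfl, ← RingHom.comap_ker, h1, ← hI',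
      show ls.map Ψ = ls.map Ψ.toRingHom from rfl, ← Ideal.map_ofList, Ideal.comap_map_of_surjective Ψ.toRingHom hΨ,
      ← RingHom.ker_eq_comap_bot, hker, Ideal.ofList_cons, sup_comm]
  refine ⟨π g₀, hg₀, L.length, L.get, ?_, ⟨?_⟩⟩
  · rw [List.ofFn_get]
    refine ⟨TransLib.isWeaklyRegular_cons_of_surjective Ψ.toRingHom hΨ _ hker (TransLib.isSMulRegular_awayEqn g₀) _
      (RingTheory.Sequence.IsRegular.toIsWeaklyRegular hrs'), fun htop => ?_⟩
    rw [smul_eq_mul, Ideal.mul_top, ← hkρ] at htop
    have hB : Subsingleton B' :=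
      (RingHom.quotientKerEquivOfSurjective (f := ρ.toRingHom) hρ).toEquiv.subsingleton_congr.1
        (Ideal.Quotient.subsingleton_iff.2 htop.symm)
    obtain ⟨k, hk⟩ := (IsLocalization.subsingleton_iff (M := Submonoid.powers (π g₀)) (S := B')).1 hB
    exact hg₀ (q.isPrime.mem_of_pow_mem k (by
      rw [show (π g₀) ^ k = 0 from hk]
      exact zero_mem _))
  · exact (Ideal.quotientKerAlgEquivOfSurjective hρ).symm.trans
      (Ideal.quotientEquivAlgOfEq A (by rw [List.ofFn_get]; exact hkρ))

end RegImmKindLib
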