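import Groth.Agent.CILib.MinGen
import Groth.Agent.DiagLib.FD
import Groth.Agent.CIRingLib.Basic
import Groth.Agent.FlatLib.SliceCM
import Groth.Agent.GorLib.RegSeq
import Groth.Agent.KoszDetLib.Cone
import Groth.Agent.S5802
import Groth.Agent.S5803
import Groth.Agent.S2103
import Groth.Agent.S15821
import Groth.Agent.TransLib.RelField
import Groth.Prelude.Def_RegImm
import Mathlib

/-!
# The four kinds of regular sequences agree locally over Noetherian rings
-/

set_option autoImplicit false
set_option linter.style.haveILetI false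
set_option backward.isDefEq.respectTransparency.types false

noncomputable section

universe u

open RingTheory.Sequence IsLocalRing MvPolynomial

namespace RegImmKindLib

/-- Quasi-regular sequences localise. -/
theorem isQuasiRegular_localization {R : Type u} [CommRing R] {r : ℕ} {f : Fin r → R} (hf : CAlgX.IsQuasiRegular f)
    (S : Submonoid R) (L : Type u) [CommRing L] [Algebra R L] [IsLocalization S L] :
    CAlgX.IsQuasiRegular (fun i => algebraMap R L (f i)) := by
  classical
  intro n P hP hPI d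
  have hspan : Ideal.span (Set.range fun i => algebraMap R L (f i)) = (Ideal.span (Set.range f)).map (algebraMap R L) := by
    rw [Ideal.map_span, ← Set.range_comp]; rfl
  rw [hspan] at hPI ⊢
  obtain ⟨b, hb⟩ := IsLocalization.exist_integer_multiples S P.support (fun d => P.coeff d)
  choose c hc using hb
  let F : MvPolynomial (Fin r) R := ∑ e ∈ P.support.attach, monomial e.1 (c e.1 e.2)
  have hFc : ∀ e, algebraMap R L (F.coeff e) = algebraMap R L (b : R) * P.coeff e := by
    intro e
    simp only [F, coeff_sum, coeff_monomial]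
    by_cases he : e ∈ P.support
    · rw [Finset.sum_eq_single ⟨e, he⟩ (fun x _ hx => if_neg fun h => hx (Subtype.ext h))
        (fun h => absurd (Finset.mem_attach _ _) h), if_pos rfl, hc, Algebra.smul_def]
    · rw [Finset.sum_eq_zero fun x _ => if_neg (fun h => he (by rw [← h]; exact x.2)), map_zero,
        notMem_support_iff.1 he, mul_zero]
  have hFhom : F.IsHomogeneous n := IsHomogeneous.sum _ _ _ fun e _ =>
    isHomogeneous_monomial _ (hP.degree_eq_sum_deg_support e.2).symm
  have hmapF : MvPolynomial.map (algebraMap R L) F = MvPolynomial.C (algebraMap R L (b : R)) * P := by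
    ext e
    rw [coeff_map, coeff_C_mul, hFc]
  have heval : algebraMap R L (eval f F) ∈ ((Ideal.span (Set.range f)).map (algebraMap R L)) ^ (n + 1) := by
    rw [MvPolynomial.map_eval, hmapF, map_mul, eval_C]
    exact Ideal.mul_mem_left _ _ hPI
  rw [← Ideal.map_pow, IsLocalization.algebraMap_mem_map_algebraMap_iff S] at heval
  obtain ⟨t, ht, hj⟩ := heval
  have hk := hf n (MvPolynomial.C t * F) (hFhom.C_mul _) (by rw [map_mul, eval_C]; exact hj) d
  have hk2 := Ideal.mem_map_of_mem (algebraMap R L) hk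
  have hbu : IsUnit (algebraMap R L (b : R)) := IsLocalization.map_units L b
  have htu : IsUnit (algebraMap R L t) := IsLocalization.map_units L ⟨t, ht⟩
  rwa [coeff_C_mul, map_mul, hFc, Ideal.unit_mul_mem_iff_mem _ htu, Ideal.unit_mul_mem_iff_mem _ hbu] at hk2

/-- A sequence of any of the four kinds becomes regular in the local ring at a prime containing it. -/
theorem isRegular_of_seq (k : RegImm.Kind) {A : Type u} [CommRing A] (p : Ideal A) [p.IsPrime] (rs : List A)
    (hrs : ∀ r ∈ rs, r ∈ p) (h : k.Seq A rs) (L : Type u) [CommRing L] [Algebra A L] [IsLocalization.AtPrime L p]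
    [IsNoetherianRing L] : IsRegular L (rs.map (algebraMap A L)) := by
  haveI : IsLocalRing L := IsLocalization.AtPrime.isLocalRing L p
  haveI : Module.Flat A L := IsLocalization.flat L p.primeCompl
  have hm : ∀ r ∈ rs.map (algebraMap A L), r ∈ maximalIdeal L := fun r hr => by
    obtain ⟨a, ha, rfl⟩ := List.mem_map.1 hr
    exact (IsLocalization.AtPrime.to_map_mem_maximal_iff L p a inferInstance).2 (hrs a ha)
  refine IsRegular.of_isWeaklyRegular_of_mem_maximalIdeal _ hm ?_
  have key : ∀ (c : ℕ) (f : Fin c → L), (∀ i, f i ∈ maximalIdeal L) → CAlgX.IsQuasiRegular f →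
      IsWeaklyRegular L (List.ofFn f) := fun c f hf hq =>
    Groth.Agent.S5803.result L c f (fun i => (IsLocalRing.ringJacobson_eq_maximalIdeal (R := L)).symm ▸ hf i) hq
  have hl : rs.map (algebraMap A L) = List.ofFn fun i => algebraMap A L (rs.get i) := by
    rw [← Function.comp_def, ← List.map_ofFn, List.ofFn_get]
  have hget : ∀ i, algebraMap A L (rs.get i) ∈ maximalIdeal L := fun i =>
    hm _ (List.mem_map_of_mem (List.get_mem rs i))
  cases k with
  | regular => exact IsWeaklyRegular.of_flat (IsRegular.toIsWeaklyRegular h)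
  | koszul =>
    rw [hl]
    have h' : LCI.IsKoszulRegularSeq A (List.ofFn rs.get) := by rw [List.ofFn_get]; exact h
    exact IsLocalRing.isWeaklyRegular_of_perm_of_subset_maximalIdeal
      (GorLib.isWeaklyRegular_reverse_of_isExactK _
        (KRLib.isExactK_of_flat (R := L) (KoszDetLib.isExactK_of_isKoszulRegularSeq _ h')) hget)
      (List.reverse_perm _) fun r hr => by
        obtain ⟨i, rfl⟩ := List.mem_ofFn.1 (List.mem_reverse.1 hr)
        exact hget i
  | h1 =>
    rw [hl]
    exact key _ _ hget (isQuasiRegular_localization (Groth.Agent.S2103.result _ h) p.primeCompl L)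
  | quasi =>
    rw [hl]
    exact key _ _ hget (isQuasiRegular_localization h p.primeCompl L)

/-- A weakly regular sequence generating a proper ideal is of every kind. -/
theorem seq_of_isWeaklyRegular (k : RegImm.Kind) {A : Type u} [CommRing A] (rs : List A)
    (h : IsWeaklyRegular A rs) (hne : Ideal.ofList rs ≠ ⊤) : k.Seq A rs := by
  have hget : IsWeaklyRegular A (List.ofFn rs.get) := by rw [List.ofFn_get]; exact h
  cases k with
  | regular => exact ⟨h, by rw [Ideal.smul_eq_mul, Ideal.mul_top]; exact hne.symm⟩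
  | koszul => exact (Groth.Agent.S15821.result A rs h).1
  | quasi => exact Groth.Agent.S5802.result A _ rs.get hget
  | h1 =>
    intro a ha
    obtain ⟨M, hM⟩ := CIRingLib.exists_antisymm_of_relation rs.get hget a ha
    have e : a = ∑ i, ∑ j, M i j • (Pi.single i (rs.get j) - Pi.single j (rs.get i) : Fin rs.length → A) := by
      funext l
      simp only [Finset.sum_apply, Pi.smul_apply, Pi.sub_apply, Pi.single_apply, smul_eq_mul, mul_sub,
        Finset.sum_sub_distrib, mul_ite, mul_zero, Finset.sum_ite_eq, Finset.mem_univ, if_true]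
      rw [hM l]
      simp only [sub_mul, Finset.sum_sub_distrib]
      congr 1
      rw [Finset.sum_comm]
      simp
    rw [e]
    exact Submodule.sum_mem _ fun i _ => Submodule.sum_mem _ fun j _ =>
      Submodule.smul_mem _ _ (Submodule.subset_span ⟨i, j, rfl⟩)

theorem exists_notMem_mul_mem {A : Type u} [CommRing A] [IsNoetherianRing A] (p : Ideal A) [p.IsPrime]
    (J K : Ideal A) (h : ∀ x ∈ K, ∃ t, t ∉ p ∧ t * x ∈ J) : ∃ g, g ∉ p ∧ ∀ x ∈ K, g * x ∈ J := by
  obtain ⟨s, hs⟩ := IsNoetherian.noetherian K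
  choose t ht htJ using fun x : s => h x.1 (hs ▸ Ideal.subset_span x.2)
  classical
  refine ⟨∏ x : s, t x, prod_mem (S := p.primeCompl) fun x _ => ht x, fun x hx => ?_⟩
  have hle : K ≤ Submodule.comap (LinearMap.mulLeft A (∏ x : s, t x)) J := by
    rw [← hs]
    refine Submodule.span_le.2 fun y hy => ?_
    show (∏ x : s, t x) * y ∈ J
    rw [← Finset.prod_erase_mul _ _ (Finset.mem_univ (⟨y, hy⟩ : s)), mul_assoc]
    exact J.mul_mem_left _ (htJ ⟨y, hy⟩)
  exact hle hx

/-- Spreading out a regular sequence of the local ring, keeping its length. -/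
theorem exists_away_seq' (k : RegImm.Kind) {A : Type u} [CommRing A] [IsNoetherianRing A] (p : Ideal A) [p.IsPrime]
    (I : Ideal A) (hIp : I ≤ p) (L : Type u) [CommRing L] [Algebra A L] [IsLocalization.AtPrime L p]
    (rs : List L) (hreg : IsRegular L rs) (hI : Ideal.ofList rs = I.map (algebraMap A L)) :
    ∃ g : A, g ∉ p ∧ ∀ (L' : Type u) [CommRing L'] [Algebra A L'] [IsLocalization.Away g L'],
      ∃ rs' : List L', rs'.length = rs.length ∧ k.Seq L' rs' ∧ Ideal.ofList rs' = I.map (algebraMap A L') := by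
  haveI : IsLocalRing L := IsLocalization.AtPrime.isLocalRing L p
  haveI : IsNoetherianRing L := IsLocalization.isNoetherianRing p.primeCompl L inferInstance
  have hex : ∀ i : Fin rs.length, ∃ b ∈ I, ∃ u : L, IsUnit u ∧ algebraMap A L b = u * rs.get i := fun i => by
    obtain ⟨⟨x, s⟩, hx⟩ := (IsLocalization.mem_map_algebraMap_iff p.primeCompl L).1
      (hI ▸ Ideal.subset_span (List.get_mem rs i) : rs.get i ∈ I.map (algebraMap A L))
    exact ⟨x.1, x.2, algebraMap A L s, IsLocalization.map_units L s, by rw [← hx, mul_comm]⟩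
  choose b hbI u hu hbu using hex
  let bs := List.ofFn b
  let y : Fin rs.length → L := fun i => algebraMap A L (b i)
  have hspan : Ideal.span (Set.range y) = Ideal.span (Set.range rs.get) := by
    refine le_antisymm (Ideal.span_le.2 ?_) (Ideal.span_le.2 ?_)
    · rintro _ ⟨i, rfl⟩
      show y i ∈ Ideal.span (Set.range rs.get)
      rw [show y i = u i * rs.get i from hbu i]
      exact Ideal.mul_mem_left _ _ (Ideal.subset_span ⟨i, rfl⟩)
    · rintro _ ⟨i, rfl⟩
      rw [SetLike.mem_coe, ← Ideal.unit_mul_mem_iff_mem _ (hu i), ← hbu]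
      exact Ideal.subset_span ⟨i, rfl⟩
  have hyreg : IsRegular L (List.ofFn y) :=
    CILib.isRegular_of_span_eq _ L rs.get y (by rw [List.ofFn_get]; exact hreg) hspan
  have hmap : bs.map (algebraMap A L) = List.ofFn y := List.map_ofFn
  have hbsI : Ideal.ofList bs ≤ I := Ideal.span_le.2 fun x hx => by
    obtain ⟨i, rfl⟩ := List.mem_ofFn.1 hx
    exact hbI i
  have hbL : (Ideal.ofList bs).map (algebraMap A L) = I.map (algebraMap A L) := by
    rw [← hI, Ideal.map_ofList, hmap, CILib.ofList_ofFn, hspan, ← CILib.ofList_ofFn, List.ofFn_get]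
  obtain ⟨g₀, hg₀, hg₀I⟩ := exists_notMem_mul_mem p (Ideal.ofList bs) I fun x hx => by
    obtain ⟨m, hm, hmx⟩ := (IsLocalization.algebraMap_mem_map_algebraMap_iff p.primeCompl L _ _).1
      (hbL ▸ Ideal.mem_map_of_mem _ hx : algebraMap A L x ∈ (Ideal.ofList bs).map (algebraMap A L))
    exact ⟨m, hm, hmx⟩
  have hcol : ∀ i : Fin bs.length, ∃ g, g ∉ p ∧ ∀ m ∈ (Submodule.comap (LinearMap.mulLeft A bs[i])
      (Ideal.ofList (bs.take i)) : Ideal A), g * m ∈ Ideal.ofList (bs.take i) := fun i => by
    refine exists_notMem_mul_mem p _ _ fun m hm => ?_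
    have hw := hyreg.toIsWeaklyRegular
    rw [← hmap, isWeaklyRegular_iff] at hw
    have hi : (i : ℕ) < (bs.map (algebraMap A L)).length := by rw [List.length_map]; exact i.2
    have h1 := hw i hi
    have h2 : (algebraMap A L m) ∈ (Ideal.ofList ((bs.map (algebraMap A L)).take i) • ⊤ : Submodule L L) := by
      refine (Submodule.Quotient.mk_eq_zero _).1 (isSMulRegular_iff_right_eq_zero_of_smul.1 h1 _ ?_)
      rw [← Submodule.Quotient.mk_smul, Submodule.Quotient.mk_eq_zero, List.getElem_map, smul_eq_mul,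
        smul_eq_mul, Ideal.mul_top, ← List.map_take, ← Ideal.map_ofList, ← map_mul]
      exact Ideal.mem_map_of_mem _ hm
    rw [smul_eq_mul, Ideal.mul_top, ← List.map_take, ← Ideal.map_ofList,
      IsLocalization.algebraMap_mem_map_algebraMap_iff p.primeCompl] at h2
    obtain ⟨t, ht, htm⟩ := h2
    exact ⟨t, ht, htm⟩
  choose gi hgi hgim using hcol
  refine ⟨g₀ * ∏ i, gi i, mul_mem (s := p.primeCompl) hg₀ (prod_mem (S := p.primeCompl) fun i _ => hgi i),
    fun L' _ _ _ => ?_⟩
  have hu' : IsUnit (algebraMap A L' (g₀ * ∏ i, gi i)) := IsLocalization.Away.algebraMap_isUnit _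
  have heq : Ideal.ofList (bs.map (algebraMap A L')) = I.map (algebraMap A L') := by
    rw [← Ideal.map_ofList]
    refine le_antisymm (Ideal.map_mono hbsI) (Ideal.map_le_iff_le_comap.2 fun x hx => ?_)
    rw [Ideal.mem_comap, ← Ideal.unit_mul_mem_iff_mem _ hu', ← map_mul]
    refine Ideal.mem_map_of_mem _ ?_
    rw [mul_comm g₀, mul_assoc]
    exact Ideal.mul_mem_left _ _ (hg₀I x hx)
  refine ⟨bs.map (algebraMap A L'), by simp [bs], seq_of_isWeaklyRegular k _ ?_ ?_, heq⟩
  · refine FlatLib.isWeaklyRegular_away bs (g₀ * ∏ i, gi i) L' fun i hi q hq m hm => ⟨_, hq, ?_⟩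
    rw [← Finset.prod_erase_mul _ _ (Finset.mem_univ (⟨i, hi⟩ : Fin bs.length)), ← mul_assoc, mul_assoc]
    exact Ideal.mul_mem_left _ _ (hgim ⟨i, hi⟩ m hm)
  · rw [heq]
    have hd : Disjoint (Submonoid.powers (g₀ * ∏ i, gi i) : Set A) p := by
      refine (Ideal.disjoint_powers_iff_notMem _ (Ideal.IsPrime.isRadical ‹_›)).2 ?_
      exact mul_mem (s := p.primeCompl) hg₀ (prod_mem (S := p.primeCompl) fun i _ => hgi i)
    exact ne_top_of_le_ne_top
      (IsLocalization.isPrime_of_isPrime_disjoint (Submonoid.powers (g₀ * ∏ i, gi i)) L' p ‹_› hd).ne_top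
      (Ideal.map_mono hIp)

/-- Spreading out a regular sequence of the local ring. -/
theorem exists_away_seq (k : RegImm.Kind) {A : Type u} [CommRing A] [IsNoetherianRing A] (p : Ideal A) [p.IsPrime]
    (I : Ideal A) (hIp : I ≤ p) (L : Type u) [CommRing L] [Algebra A L] [IsLocalization.AtPrime L p]
    (rs : List L) (hreg : IsRegular L rs) (hI : Ideal.ofList rs = I.map (algebraMap A L)) :
    ∃ g : A, g ∉ p ∧ ∀ (L' : Type u) [CommRing L'] [Algebra A L'] [IsLocalization.Away g L'],
      ∃ rs' : List L', k.Seq L' rs' ∧ Ideal.ofList rs' = I.map (algebraMap A L') := by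
  obtain ⟨g, hg, h⟩ := exists_away_seq' k p I hIp L rs hreg hI
  refine ⟨g, hg, fun L' _ _ _ => ?_⟩
  obtain ⟨rs', -, h1, h2⟩ := h L'
  exact ⟨rs', h1, h2⟩

/-- The local algebra of a factorisation of regular surjections. -/
theorem exists_regular_ker_of_comp {A B C : Type u} [CommRing A] [CommRing B] [CommRing C] [IsNoetherianRing A]
    [IsLocalRing A] [Nontrivial C] [Algebra A B] [Algebra B C] (hA : Function.Surjective (algebraMap A B))
    (hB : Function.Surjective (algebraMap B C)) (hfd : DRing.HasFiniteTorDim B C)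
    (hreg : ∃ rs : List A, IsRegular A rs ∧
      RingHom.ker ((algebraMap B C).comp (algebraMap A B)) = Ideal.ofList rs) :
    (∃ rs : List A, IsRegular A rs ∧ RingHom.ker (algebraMap A B) = Ideal.ofList rs) ∧
      ∃ rs : List B, IsRegular B rs ∧ RingHom.ker (algebraMap B C) = Ideal.ofList rs := by
  let I := RingHom.ker (algebraMap A B)
  let J := RingHom.ker ((algebraMap B C).comp (algebraMap A B))
  have hIJ : I ≤ J := fun a ha => by
    show algebraMap B C (algebraMap A B a) = 0
    rw [show algebraMap A B a = 0 from ha, map_zero]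
  have hJ : J ≠ ⊤ := fun h => one_ne_zero (α := C) (by
    have h1 : (1 : A) ∈ J := h ▸ Submodule.mem_top
    rwa [RingHom.mem_ker, map_one] at h1)
  let e : (A ⧸ I) ≃+* B := RingHom.quotientKerEquivOfSurjective hA
  letI : Algebra (A ⧸ I) (A ⧸ J) := (Ideal.Quotient.factor hIJ).toAlgebra
  haveI : IsScalarTower A (A ⧸ I) (A ⧸ J) := IsScalarTower.of_algebraMap_eq fun _ => rfl
  letI : Algebra (A ⧸ I) B := e.toRingHom.toAlgebra
  haveI : Module.Flat (A ⧸ I) B :=
    Module.Flat.of_linearEquiv (AlgEquiv.ofBijective (Algebra.ofId (A ⧸ I) B) e.bijective).toLinearEquiv.symm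
  letI : Algebra (A ⧸ I) C := ((algebraMap B C).comp e.toRingHom).toAlgebra
  haveI : IsScalarTower (A ⧸ I) B C := IsScalarTower.of_algebraMap_eq fun _ => rfl
  have hsurj : Function.Surjective ((algebraMap B C).comp (algebraMap A B)) := hB.comp hA
  let f : (A ⧸ J) →ₐ[A ⧸ I] C :=
    { (RingHom.quotientKerEquivOfSurjective hsurj).toRingHom with
      commutes' := fun x => by
        obtain ⟨a, rfl⟩ := Ideal.Quotient.mk_surjective x
        rfl }
  obtain ⟨d, hd⟩ := DiagLib.exists_FD_of_hasFiniteTorDim hfd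
  have hfd' : DRing.HasFiniteTorDim (A ⧸ I) (A ⧸ J) := CILib.hasFiniteTorDim_of_FD
    (DiagLib.FD.of_equiv d (AlgEquiv.ofBijective f (RingHom.quotientKerEquivOfSurjective hsurj).bijective).toLinearEquiv.symm
      (DiagLib.FD.restrict d hd))
  obtain ⟨rs, hrs, hrs'⟩ := hreg
  obtain ⟨⟨r1, h1, h1'⟩, r2, h2, h2'⟩ :=
    CILib.exists_regular_of_finiteTorDim I J hIJ hJ hfd' ⟨rs, hrs'.symm, hrs⟩
  refine ⟨⟨r1, h1', h1.symm⟩, r2.map e.toRingHom, TransLib.isRegular_of_ringEquiv e h2', ?_⟩
  rw [← Ideal.map_ofList, h2, Ideal.map_map]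
  show RingHom.ker (algebraMap B C) = J.map (algebraMap A B)
  rw [show J = (RingHom.ker (algebraMap B C)).comap (algebraMap A B) from (RingHom.comap_ker _ _).symm,
    Ideal.map_comap_of_surjective _ hA]

end RegImmKindLib
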